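import Mathlib

/-!
# Split injections and their sequential colimits
-/

set_option linter.style.haveILetI false

universe v u

open CategoryTheory Limits

namespace Groth.Agent.KFlat

variable {C : Type u} [Category.{v} C] [Preadditive C] [HasBinaryBiproducts C]

/-- `f` is isomorphic to the inclusion of a direct summand whose complement satisfies `Φ`. -/
def SplitInj (Φ : C → Prop) {K M : C} (f : K ⟶ M) : Prop :=
  ∃ (Z : C) (e : M ≅ K ⊞ Z), Φ Z ∧ f ≫ e.hom = biprod.inl

/-- Associativity of biproducts, in the form needed below. -/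
@[simps]
noncomputable def biprodAssoc (K Z W : C) : (K ⊞ Z) ⊞ W ≅ K ⊞ (Z ⊞ W) where
  hom := biprod.desc (biprod.map (𝟙 K) biprod.inl) (biprod.inr ≫ biprod.inr)
  inv := biprod.desc (biprod.inl ≫ biprod.inl) (biprod.map biprod.inr (𝟙 W))
  hom_inv_id := by ext <;> simp
  inv_hom_id := by ext <;> simp

variable {Φ : C → Prop}

theorem SplitInj.comp (hbp : ∀ {A B : C}, Φ A → Φ B → Φ (A ⊞ B)) {K M N : C} {f : K ⟶ M}
    {g : M ⟶ N} (hf : SplitInj Φ f) (hg : SplitInj Φ g) : SplitInj Φ (f ≫ g) := by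
  obtain ⟨Z, e, hZ, he⟩ := hf
  obtain ⟨W, e', hW, he'⟩ := hg
  refine ⟨Z ⊞ W, e' ≪≫ biprod.mapIso e (Iso.refl W) ≪≫ biprodAssoc K Z W, hbp hZ hW, ?_⟩
  simp only [Iso.trans_hom, Category.assoc, reassoc_of% he', biprod.mapIso_hom,
    biprod.inl_map_assoc, reassoc_of% he]
  simp

theorem SplitInj.biprod_inl {K Z : C} (hZ : Φ Z) : SplitInj Φ (biprod.inl : K ⟶ K ⊞ Z) :=
  ⟨Z, Iso.refl _, hZ, Category.comp_id _⟩

theorem SplitInj.of_iso {K M M' : C} {f : K ⟶ M} (h : SplitInj Φ f) (e₀ : M ≅ M') {f' : K ⟶ M'}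
    (w : f ≫ e₀.hom = f') : SplitInj Φ f' := by
  obtain ⟨Z, e, hZ, he⟩ := h
  exact ⟨Z, e₀.symm ≪≫ e, hZ, by simp [← w, he]⟩

theorem SplitInj.exists_retraction {K M : C} {f : K ⟶ M} (h : SplitInj Φ f) :
    ∃ r : M ⟶ K, f ≫ r = 𝟙 K := by
  obtain ⟨Z, e, _, he⟩ := h
  exact ⟨e.hom ≫ biprod.fst, by rw [reassoc_of% he, biprod.inl_fst]⟩

theorem SplitInj.cokernel (hiso : ∀ {A B : C}, (A ≅ B) → Φ A → Φ B) {K M : C} {f : K ⟶ M}
    [HasCokernel f] (h : SplitInj Φ f) : Φ (cokernel f) := by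
  obtain ⟨Z, e, hZ, he⟩ := h
  have hf : f = biprod.inl ≫ e.inv := by rw [← he]; simp
  let i : Limits.cokernel f ≅ Z :=
    { hom := Limits.cokernel.desc f (e.hom ≫ biprod.snd) (by rw [reassoc_of% he, biprod.inl_snd])
      inv := biprod.inr ≫ e.inv ≫ Limits.cokernel.π f
      hom_inv_id := by
        refine (cancel_epi (Limits.cokernel.π f)).1 ?_
        have h0 : biprod.inl ≫ e.inv ≫ Limits.cokernel.π f = 0 := by
          rw [← Category.assoc, ← hf, cokernel.condition]
        have ht : e.hom ≫ (biprod.fst ≫ biprod.inl + biprod.snd ≫ biprod.inr) ≫ e.inv = 𝟙 M := by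
          simp [biprod.total]
        rw [Category.comp_id, cokernel.π_desc_assoc]
        conv_rhs => rw [← Category.id_comp (Limits.cokernel.π f), ← ht]
        simp only [Preadditive.add_comp, Preadditive.comp_add, Category.assoc, h0, comp_zero,
          zero_add]
      inv_hom_id := by simp }
  exact hiso i.symm hZ

theorem SplitInj.source (hiso : ∀ {A B : C}, (A ≅ B) → Φ A → Φ B)
    (hbp : ∀ {A B : C}, Φ A → Φ B → Φ (A ⊞ B)) {K M : C} {f : K ⟶ M} (h : SplitInj Φ f)
    (hK : Φ K) : Φ M := by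
  obtain ⟨Z, e, hZ, _⟩ := h
  exact hiso e.symm (hbp hK hZ)

section

variable [HasCountableCoproducts C] {F : ℕ ⥤ C} {Y : ℕ → C}
  (e : ∀ i, F.obj (i + 1) ≅ F.obj i ⊞ Y i)

/-- The components of the comparison with the direct sum of the complements. -/
noncomputable def toSum : ∀ i, F.obj i ⟶ F.obj 0 ⊞ (∐ Y)
  | 0 => biprod.inl
  | i + 1 => (e i).hom ≫ biprod.desc (toSum i) (Sigma.ι Y i ≫ biprod.inr)

/-- A sequential colimit of inclusions of direct summands is a direct sum. -/
theorem splitInj_ι_of_isColimit (he : ∀ i, F.map (homOfLE (Nat.le_succ i)) ≫ (e i).hom = biprod.inl)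
    (hY : Φ (∐ Y)) (c : Cocone F) (hc : IsColimit c) : SplitInj Φ (c.ι.app 0) := by
  have hw : ∀ i, F.map (homOfLE (Nat.le_succ i)) ≫ toSum e (i + 1) = toSum e i := fun i => by
    simp only [toSum]
    rw [reassoc_of% (he i), biprod.inl_desc]
  let s : Cocone F :=
    { pt := F.obj 0 ⊞ (∐ Y)
      ι := NatTrans.ofSequence (toSum e) fun i => (hw i).trans (Category.comp_id _).symm }
  let E : F.obj 0 ⊞ (∐ Y) ⟶ c.pt :=
    biprod.desc (c.ι.app 0) (Sigma.desc fun i => biprod.inr ≫ (e i).inv ≫ c.ι.app (i + 1))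
  have hfac : ∀ i, c.ι.app i ≫ hc.desc s = toSum e i := fun i => hc.fac s i
  have hE : ∀ i, toSum e i ≫ E = c.ι.app i := by
    intro i
    induction i with
    | zero => exact biprod.inl_desc _ _
    | succ i ih =>
      rw [← cancel_epi (e i).inv]
      ext
      · simp only [toSum, Category.assoc, Iso.inv_hom_id_assoc, biprod.inl_desc_assoc]
        have hi : biprod.inl ≫ (e i).inv = F.map (homOfLE (Nat.le_succ i)) := by
          rw [← he i, Category.assoc, Iso.hom_inv_id, Category.comp_id]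
        rw [ih, reassoc_of% hi, c.w]
      · simp only [toSum, Category.assoc, Iso.inv_hom_id_assoc, biprod.inr_desc_assoc]
        simp [E]
  refine ⟨∐ Y, { hom := hc.desc s, inv := E, hom_inv_id := ?_, inv_hom_id := ?_ }, hY, hc.fac s 0⟩
  · refine hc.hom_ext fun i => ?_
    exact (Category.assoc _ _ _).symm.trans (((congrArg (· ≫ E) (hfac i)).trans (hE i)).trans (Category.comp_id _).symm)
  · refine biprod.hom_ext' _ _ ?_ (Sigma.hom_ext _ _ fun i => ?_)
    · rw [biprod.inl_desc_assoc, hfac, Category.comp_id]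
      rfl
    · rw [biprod.inr_desc_assoc, Sigma.ι_desc_assoc, Category.assoc, Category.assoc, hfac,
        Category.comp_id]
      simp [toSum]

end

end Groth.Agent.KFlat
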