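import Groth.Agent.KFlat.ResolutionMain
import Groth.Agent.KFlat.SplitSeq

/-!
# Systems of bounded above resolutions with split injective transition maps
-/

set_option linter.style.haveILetI false
set_option linter.unusedSectionVars false

universe v u

open CategoryTheory Limits

namespace Groth.Agent.KFlat

open CochainComplex HomComplex

variable {C : Type u} [Category.{v} C] [Abelian C]

/-- A class of objects from which bounded above resolutions can be built. -/
structure ResClass [HasCountableCoproducts C] (Φ : C → Prop) : Prop where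
  iso : ∀ {M M' : C}, (M ≅ M') → Φ M → Φ M'
  zero : ∀ {M : C}, IsZero M → Φ M
  biprod : ∀ {M M' : C}, Φ M → Φ M' → Φ (M ⊞ M')
  sum : ∀ (Y : ℕ → C), (∀ i, Φ (Y i)) → Φ (∐ Y)
  cover : ∀ X : C, ∃ (P : C) (π : P ⟶ X), Φ P ∧ Epi π

variable [HasCountableCoproducts C] {Φ : C → Prop}

theorem ResClass.cover_zero (h : ResClass Φ) (X : C) :
    ∃ (P : C) (π : P ⟶ X), Φ P ∧ Epi π ∧ (IsZero X → IsZero P) := by
  by_cases hX : IsZero X
  · exact ⟨X, 𝟙 X, h.zero hX, inferInstance, fun _ => hX⟩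
  · obtain ⟨P, π, hP, hπ⟩ := h.cover X
    exact ⟨P, π, hP, hπ, fun h' => absurd h' hX⟩

theorem isZero_biprod {A B : C} (hA : IsZero A) (hB : IsZero B) : IsZero (A ⊞ B) := by
  rw [IsZero.iff_id_eq_zero]
  exact biprod.hom_ext' _ _ (hA.eq_of_src _ _) (hB.eq_of_src _ _)

theorem isZero_of_isColimit {F : ℕ ⥤ C} {s : Cocone F} (hs : IsColimit s)
    (h : ∀ i, IsZero (F.obj i)) : IsZero s.pt := by
  rw [IsZero.iff_id_eq_zero]
  exact hs.hom_ext fun i => (h i).eq_of_src _ _

/-- The terms of a mapping cone vanish where those of the source and target do. -/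
theorem isZero_mappingCone_X {K L : CochainComplex C ℤ} (φ : K ⟶ L) {b : ℤ} (n : ℤ)
    (hK : ∀ i, b < i → IsZero (K.X i)) (hL : IsZero (L.X n)) (hn : b < n + 1) :
    IsZero ((mappingCone φ).X n) :=
  (isZero_biprod (hK _ hn) hL).of_iso (coneXIso φ n)

variable [HasColimitsOfShape ℕ C] [HasExactColimitsOfShape ℕ C]

/-- A map of bounded above complexes factors as a degreewise split injection followed by a
quasi-isomorphism. -/
theorem exists_split_factor (h : ResClass Φ) {K G : CochainComplex C ℤ} (a : K ⟶ G) (b : ℤ)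
    (hK : ∀ n, b < n → IsZero (K.X n)) (hG : ∀ n, b < n → IsZero (G.X n)) :
    ∃ (N : CochainComplex C ℤ) (β : K ⟶ N) (c : N ⟶ G), QuasiIso c ∧ β ≫ c = a ∧
      (∀ n, SplitInj Φ (β.f n)) ∧ ∀ n, b < n → IsZero (N.X n) := by
  classical
  choose cov π hcov hπ hz using h.cover_zero
  let q : Stage G := ⟨K, a⟩
  haveI : ∀ X, Epi (π X) := hπ
  have hbdd : ∀ i n, b < n → IsZero ((stage cov π q i).1.X n) := fun i => by
    induction i with
    | zero => exact hK
    | succ i ih =>
      intro n hn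
      refine isZero_mappingCone_X (attach cov π (stage cov π q i)) (b := b + 1) n (fun m hm => ?_)
        (ih n hn) (by omega)
      refine hz _ (IsZero.of_mono ((mappingCone (stage cov π q i).2).iCycles (m - 1)) ?_)
      exact (isZero_biprod (ih _ (by omega)) (hG _ (by omega))).of_iso (coneXIso _ _)
  refine ⟨colimit (stageSeq cov π q), stageι cov π q 0, colimMap' cov π q,
    quasiIso_colimMap' cov π q, ι_colimMap' cov π q 0, fun n => ?_, fun n hn => ?_⟩
  · let Y : ℕ → C := fun i => cells cov (stage cov π q i) (n + 1)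
    let F : ℕ ⥤ C := stageSeq cov π q ⋙ HomologicalComplex.eval C (ComplexShape.up ℤ) n
    let e : ∀ i, F.obj (i + 1) ≅ F.obj i ⊞ Y i := fun i =>
      coneXIso (attach cov π (stage cov π q i)) n ≪≫ biprod.braiding _ _
    have he : ∀ i, F.map (homOfLE (Nat.le_succ i)) ≫ (e i).hom = biprod.inl := fun i => by
      show ((stageSeq cov π q).map (homOfLE (Nat.le_succ i))).f n ≫ _ = _
      rw [stageSeq_map]
      dsimp only [toNext, e, coneXIso, Iso.trans_hom, biprod.braiding_hom]
      refine biprod.hom_ext _ _ ?_ ?_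
      · erw [Category.assoc, Category.assoc, biprod.lift_fst, biprod.inl_fst, biprod.lift_snd]
        exact mappingCone.inr_f_snd_v (attach cov π (stage cov π q i)) n
      · erw [Category.assoc, Category.assoc, biprod.lift_snd, biprod.inl_snd, biprod.lift_fst]
        exact mappingCone.inr_f_fst_v (attach cov π (stage cov π q i)) n (n + 1) rfl
    exact splitInj_ι_of_isColimit e he (h.sum Y fun i => hcov _) _
      (isColimitOfPreserves (HomologicalComplex.eval C (ComplexShape.up ℤ) n)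
        (colimit.isColimit (stageSeq cov π q)))
  · exact isZero_of_isColimit (isColimitOfPreserves (HomologicalComplex.eval C (ComplexShape.up ℤ) n)
      (colimit.isColimit (stageSeq cov π q))) fun i => hbdd i n hn

/-- A map of bounded above complexes factors as a degreewise split injection followed by a
degreewise epimorphic quasi-isomorphism. -/
theorem exists_step (h : ResClass Φ) {K G : CochainComplex C ℤ} (a : K ⟶ G) (b : ℤ)
    (hK : ∀ n, b < n → IsZero (K.X n)) (hG : ∀ n, b < n → IsZero (G.X n)) :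
    ∃ (N : CochainComplex C ℤ) (β : K ⟶ N) (c : N ⟶ G), QuasiIso c ∧ (∀ n, Epi (c.f n)) ∧
      β ≫ c = a ∧ (∀ n, SplitInj Φ (β.f n)) ∧ ∃ b' : ℤ, ∀ n, b' < n → IsZero (N.X n) := by
  classical
  choose P π hP hπ hz using fun m : ℤ => h.cover_zero (G.X (m - 1))
  let Q := zeroDiff P
  let α : Cochain Q G (-1) :=
    Cochain.mk fun p n hpn => π p ≫ (G.XIsoOfEq (show p - 1 = n by omega)).hom
  let z : Cocycle Q G 0 := Cocycle.mk (δ (-1) 0 α) 1 (by omega) (δ_δ (-1) 0 1 α)
  let a₁ : mappingCone (𝟙 Q) ⟶ G := mappingCone.desc (𝟙 Q) α (Cocycle.homOf z) (by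
    rw [Category.id_comp]
    exact (Cocycle.cochain_ofHom_homOf_eq_coe z).symm)
  let E := mappingCone (𝟙 Q)
  have hE : ∀ n, b + 1 < n → IsZero (E.X n) := fun n hn =>
    isZero_mappingCone_X (𝟙 Q) (b := b + 1) n (fun m hm => hz m (hG _ (by omega)))
      (hz n (hG _ (by omega))) (by omega)
  have hΦE : ∀ n, Φ (E.X n) := fun n => h.iso (coneXIso _ n).symm (h.biprod (hP _) (hP _))
  obtain ⟨N, β, c, hc, hβc, hβ, hN⟩ := exists_split_factor h (biprod.desc a a₁) (b + 1)
    (fun n hn => (isZero_biprod (hK n (by omega)) (hE n hn)).of_iso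
      (HomologicalComplex.biprodXIso K E n))
    (fun n hn => hG n (by omega))
  refine ⟨N, biprod.inl ≫ β, c, hc, fun n => ?_, by rw [Category.assoc, hβc, biprod.inl_desc],
    fun n => ?_, b + 1, hN⟩
  · haveI : Epi (π (n + 1)) := hπ (n + 1)
    have e1 : (mappingCone.inl (𝟙 Q)).v (n + 1) n (by omega) ≫ (biprod.inr : E ⟶ K ⊞ E).f n ≫
        β.f n ≫ c.f n = π (n + 1) ≫ (G.XIsoOfEq (show n + 1 - 1 = n by omega)).hom := by
      rw [← HomologicalComplex.comp_f, ← HomologicalComplex.comp_f, hβc, biprod.inr_desc]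
      exact mappingCone.inl_v_desc_f _ _ _ _ _ _ _
    haveI : Epi (((mappingCone.inl (𝟙 Q)).v (n + 1) n (by omega) ≫
        (biprod.inr : E ⟶ K ⊞ E).f n ≫ β.f n) ≫ c.f n) := by
      rw [Category.assoc, Category.assoc, e1]
      exact @epi_comp _ _ _ _ _ _ (hπ (n + 1)) _ inferInstance
    exact epi_of_epi ((mappingCone.inl (𝟙 Q)).v (n + 1) n _ ≫
      (biprod.inr : E ⟶ K ⊞ E).f n ≫ β.f n) (c.f n)
  · rw [HomologicalComplex.comp_f]
    refine SplitInj.comp h.biprod ⟨E.X n, HomologicalComplex.biprodXIso K E n, hΦE n, ?_⟩ (hβ n)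
    rw [← HomologicalComplex.inl_biprodXIso_inv, Category.assoc, Iso.inv_hom_id, Category.comp_id]

/-- A tower of bounded above complexes has a system of resolutions with split injective
transition maps. -/
theorem exists_system (h : ResClass Φ) (T : ℕ → CochainComplex C ℤ)
    (t : ∀ n, T n ⟶ T (n + 1)) (hT : ∀ n, ∃ b : ℤ, ∀ i, b < i → IsZero ((T n).X i)) :
    ∃ (Kc : ℕ ⥤ CochainComplex C ℤ) (p : ∀ n, Kc.obj n ⟶ T n),
      (∀ n, Kc.map (homOfLE (Nat.le_succ n)) ≫ p (n + 1) = p n ≫ t n) ∧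
      (∀ n, QuasiIso (p n) ∧ ∀ i, Epi ((p n).f i)) ∧
      (∀ n, ∃ b : ℤ, ∀ i, b < i → IsZero ((Kc.obj n).X i)) ∧
      (∀ n i, Φ ((Kc.obj n).X i)) ∧
      ∀ n i, SplitInj Φ ((Kc.map (homOfLE (Nat.le_succ n))).f i) := by
  classical
  choose bT hbT using hT
  let Good : ∀ n, (Σ K : CochainComplex C ℤ, K ⟶ T n) → Prop := fun _ p =>
    QuasiIso p.2 ∧ (∀ i, Epi (p.2.f i)) ∧ (∃ b : ℤ, ∀ i, b < i → IsZero (p.1.X i)) ∧
      ∀ i, Φ (p.1.X i)
  have hΦ : ∀ {K N : CochainComplex C ℤ} (β : K ⟶ N), (∀ i, SplitInj Φ (β.f i)) →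
      (∀ i, Φ (K.X i)) → ∀ i, Φ (N.X i) :=
    fun β hβ hK i => SplitInj.source h.iso h.biprod (hβ i) (hK i)
  have first : ∃ p, Good 0 p := by
    obtain ⟨Z, hZ⟩ : ∃ Z : CochainComplex C ℤ, IsZero Z := HasZeroObject.zero
    have hZX : ∀ i, IsZero (Z.X i) := fun i =>
      (HomologicalComplex.eval C (ComplexShape.up ℤ) i).map_isZero hZ
    obtain ⟨N, β, c, hc, he, -, hβ, hN⟩ :=
      exists_step h (0 : Z ⟶ T 0) (bT 0) (fun i _ => hZX i) (hbT 0)
    exact ⟨⟨N, c⟩, hc, he, hN, hΦ β hβ fun i => h.zero (hZX i)⟩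
  have next : ∀ n (p : Σ K : CochainComplex C ℤ, K ⟶ T n), Good n p →
      ∃ (p' : Σ K : CochainComplex C ℤ, K ⟶ T (n + 1)) (β : p.1 ⟶ p'.1),
        Good (n + 1) p' ∧ β ≫ p'.2 = p.2 ≫ t n ∧ ∀ i, SplitInj Φ (β.f i) := by
    rintro n p ⟨-, -, ⟨b, hb⟩, hp⟩
    obtain ⟨N, β, c, hc, he, hβc, hβ, hN⟩ := exists_step h (p.2 ≫ t n) (max b (bT (n + 1)))
      (fun i hi => hb i (lt_of_le_of_lt (le_max_left _ _) hi))
      (fun i hi => hbT _ i (lt_of_le_of_lt (le_max_right _ _) hi))
    exact ⟨⟨N, c⟩, β, ⟨hc, he, hN, hΦ β hβ hp⟩, hβc, hβ⟩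
  choose p₀ hp₀ using first
  choose nx β hnx hcomm hsplit using next
  let S : ∀ n, { p : Σ K : CochainComplex C ℤ, K ⟶ T n // Good n p } := fun n =>
    Nat.rec ⟨p₀, hp₀⟩ (fun n s => ⟨nx n s.1 s.2, hnx n s.1 s.2⟩) n
  let Kc : ℕ ⥤ CochainComplex C ℤ := Functor.ofSequence (X := fun n => (S n).1.1) fun n => β n (S n).1 (S n).2
  have hmap : ∀ n, Kc.map (homOfLE (Nat.le_succ n)) = β n (S n).1 (S n).2 := fun n =>
    Functor.ofSequence_map_homOfLE_succ _ n
  refine ⟨Kc, fun n => (S n).1.2, fun n => ?_, fun n => ⟨(S n).2.1, (S n).2.2.1⟩,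
    fun n => (S n).2.2.2.1, fun n => (S n).2.2.2.2, fun n i => ?_⟩
  · rw [hmap]
    exact hcomm n (S n).1 (S n).2
  · rw [hmap]
    exact hsplit n (S n).1 (S n).2 i

/-- The homology of a sequential colimit of complexes is eventually that of the terms. -/
theorem quasiIsoAt_ι_of_isColimit (K : ℕ ⥤ CochainComplex C ℤ) (s : Cocone K) (hs : IsColimit s)
    (n : ℤ) (n₀ : ℕ) (h : ∀ k, n₀ ≤ k → QuasiIsoAt (K.map (homOfLE (Nat.le_succ k))) n) :
    QuasiIsoAt (s.ι.app n₀) n := by
  let c := ComplexShape.up ℤ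
  let e : ∀ m, colimit (K ⋙ HomologicalComplex.eval C c m) ≅ s.pt.X m := fun m =>
    (colimit.isColimit _).coconePointUniqueUpToIso
      (isColimitOfPreserves (HomologicalComplex.eval C c m) hs)
  have he : ∀ m i, colimit.ι (K ⋙ HomologicalComplex.eval C c m) i ≫ (e m).hom = (s.ι.app i).f m :=
    fun m i => IsColimit.comp_coconePointUniqueUpToIso_hom _ _ i
  let dnat : ∀ a b, K ⋙ HomologicalComplex.eval C c a ⟶ K ⋙ HomologicalComplex.eval C c b := fun a b =>
    { app := fun i => (K.obj i).d a b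
      naturality := fun i j f => (K.map f).comm a b }
  let S : ShortComplex (ℕ ⥤ C) := ShortComplex.mk (dnat (c.prev n) n) (dnat n (c.next n)) (by
    ext i
    exact (K.obj i).d_comp_d _ _ _)
  have comm : ∀ a b, colim.map (dnat a b) ≫ (e b).hom = (e a).hom ≫ s.pt.d a b := fun a b => by
    refine colimit.hom_ext fun i => ?_
    rw [show colim.map (dnat a b) = colimMap (dnat a b) from rfl, ι_colimMap_assoc, he,
      reassoc_of% (he a i)]
    exact ((s.ι.app i).comm a b).symm
  let iC : S.map colim ≅ s.pt.sc n :=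
    ShortComplex.isoMk (e (c.prev n)) (e n) (e (c.next n)) (comm _ _).symm (comm _ _).symm
  have hstep : ∀ k, n₀ ≤ k → IsIso (S.homology.map (homOfLE (Nat.le_succ k))) := fun k hk => by
    have e1 := NatTrans.app_homology ((evaluation ℕ C).map (homOfLE (Nat.le_succ k))) S
    haveI : IsIso (ShortComplex.homologyMap
        (S.mapNatTrans ((evaluation ℕ C).map (homOfLE (Nat.le_succ k))))) :=
      (quasiIsoAt_iff_isIso_homologyMap _ n).1 (h k hk)
    have e2 : IsIso (((evaluation ℕ C).map (homOfLE (Nat.le_succ k))).app S.homology) := by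
      rw [e1]
      infer_instance
    exact e2
  have hconst : S.homology.IsEventuallyConstantFrom n₀ := fun j f => by
    obtain ⟨d, rfl⟩ := Nat.le.dest f.le
    induction d with
    | zero => exact (Subsingleton.elim f (𝟙 n₀) ▸ inferInstance)
    | succ d ih =>
      haveI := ih (homOfLE (Nat.le_add_right n₀ d))
      haveI := hstep (n₀ + d) (Nat.le_add_right _ _)
      rw [Subsingleton.elim f (homOfLE (Nat.le_add_right n₀ d) ≫ homOfLE (Nat.le_succ (n₀ + d))),
        Functor.map_comp]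
      infer_instance
  let τ : (evaluation ℕ C).obj n₀ ⟶ (colim : (ℕ ⥤ C) ⥤ C) :=
    { app := fun F => colimit.ι F n₀
      naturality := fun F F' g => (ι_colimMap g n₀).symm }
  haveI : IsIso (τ.app S.homology) :=
    hconst.isIso_ι_of_isColimit' (colimit.isColimit _) n₀ (𝟙 _)
  haveI : IsIso (ShortComplex.homologyMap (S.mapNatTrans τ)) := by
    rw [ShortComplex.homologyMap_mapNatTrans]
    infer_instance
  have hfac : (HomologicalComplex.shortComplexFunctor C c n).map (s.ι.app n₀) =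
      S.mapNatTrans τ ≫ iC.hom :=
    ShortComplex.hom_ext _ _ (he _ _).symm (he _ _).symm (he _ _).symm
  rw [quasiIsoAt_iff, ShortComplex.quasiIso_iff, hfac]
  exact (ShortComplex.homologyMap_comp (S.mapNatTrans τ) iC.hom).symm ▸
    (inferInstanceAs (IsIso (ShortComplex.homologyMap (S.mapNatTrans τ) ≫
      ShortComplex.homologyMap iC.hom)))

end Groth.Agent.KFlat
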