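import Groth.Agent.KFlat.Resolution

/-!
# Tensoring with K-flat complexes preserves quasi-isomorphisms
-/

set_option linter.style.haveILetI false
set_option linter.unusedSectionVars false

universe v₁ v₂ v u₁ u₂ u

open CategoryTheory Limits

namespace Groth.Agent.KFlat

open CochainComplex HomComplex

section General

variable {C : Type u₁} [Category.{v₁} C] [Abelian C] {D : Type u} [Category.{v} D] [Abelian D]

/-- The cone of a quasi-isomorphism is acyclic. -/
theorem acyclic_cone_of_quasiIso {K L : CochainComplex C ℤ} (φ : K ⟶ L) [QuasiIso φ] :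
    (mappingCone φ).Acyclic := by
  refine (HomotopyCategory.quotient_obj_mem_subcategoryAcyclic_iff_exactAt _).1 ?_
  have h : HomologicalComplex.quasiIso C (ComplexShape.up ℤ) φ :=
    (HomologicalComplex.mem_quasiIso_iff φ).2 inferInstance
  rw [← HomotopyCategory.quotient_map_mem_quasiIso_iff,
    HomotopyCategory.quasiIso_eq_trW_subcategoryAcyclic] at h
  exact ((HomotopyCategory.subcategoryAcyclic C).trW_iff_of_distinguished _
    (HomotopyCategory.mappingCone_triangleh_distinguished φ)).1 h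

variable {K L : CochainComplex C ℤ} (f : K ⟶ L)

/-- The mapping cylinder sequence `K ⟶ L ⊞ cone (𝟙 K) ⟶ cone f`. -/
noncomputable def cylSeq : ShortComplex (CochainComplex C ℤ) :=
  ShortComplex.mk (biprod.lift f (mappingCone.inr (𝟙 K)))
    (biprod.desc (-mappingCone.inr f)
      (mappingCone.map (𝟙 K) f (𝟙 K) f rfl))
    (by simp [biprod.lift_desc, mappingCone.map])

/-- The retraction of the cylinder sequence. -/
noncomputable def cylR (n : ℤ) : (L ⊞ mappingCone (𝟙 K)).X n ⟶ K.X n :=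
  (biprod.snd : L ⊞ mappingCone (𝟙 K) ⟶ _).f n ≫ (mappingCone.snd (𝟙 K)).v n n (add_zero n)

/-- The section of the cylinder sequence. -/
noncomputable def cylS (n : ℤ) : (mappingCone f).X n ⟶ (L ⊞ mappingCone (𝟙 K)).X n :=
  (mappingCone.fst f).1.v n (n + 1) rfl ≫ (mappingCone.inl (𝟙 K)).v (n + 1) n (by omega) ≫
      (biprod.inr : _ ⟶ L ⊞ mappingCone (𝟙 K)).f n -
    (mappingCone.snd f).v n n (add_zero n) ≫ (biprod.inl : L ⟶ L ⊞ mappingCone (𝟙 K)).f n

theorem cylR_spec (n : ℤ) :
    (biprod.lift f (mappingCone.inr (𝟙 K))).f n ≫ cylR (L := L) n = 𝟙 _ := by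
  rw [cylR, ← HomologicalComplex.comp_f_assoc, biprod.lift_snd]
  exact mappingCone.inr_f_snd_v _ _

theorem cylS_spec (n : ℤ) :
    cylS f n ≫ (biprod.desc (-mappingCone.inr f)
      (mappingCone.map (𝟙 K) f (𝟙 K) f rfl)).f n = 𝟙 _ := by
  rw [cylS, Preadditive.sub_comp]
  simp only [Category.assoc, ← HomologicalComplex.comp_f, biprod.inl_desc, biprod.inr_desc]
  refine mappingCone.ext_from f (n + 1) n rfl ?_ ?_ <;> simp [mappingCone.map]

theorem cyl_id (n : ℤ) :
    cylR (L := L) n ≫ (biprod.lift f (mappingCone.inr (𝟙 K))).f n +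
      (biprod.desc (-mappingCone.inr f) (mappingCone.map (𝟙 K) f (𝟙 K) f rfl)).f n ≫ cylS f n =
        𝟙 ((L ⊞ mappingCone (𝟙 K)).X n) := by
  have h1 : (biprod.inl : L ⟶ L ⊞ mappingCone (𝟙 K)).f n ≫
      (cylR (L := L) n ≫ (biprod.lift f (mappingCone.inr (𝟙 K))).f n +
      (biprod.desc (-mappingCone.inr f) (mappingCone.map (𝟙 K) f (𝟙 K) f rfl)).f n ≫ cylS f n) =
        (biprod.inl : L ⟶ L ⊞ mappingCone (𝟙 K)).f n := by
    rw [Preadditive.comp_add, cylR, Category.assoc, ← HomologicalComplex.comp_f_assoc biprod.inl,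
      biprod.inl_snd, ← HomologicalComplex.comp_f_assoc biprod.inl, biprod.inl_desc, cylS]
    simp
  have h2 : (biprod.inr : _ ⟶ L ⊞ mappingCone (𝟙 K)).f n ≫
      (cylR (L := L) n ≫ (biprod.lift f (mappingCone.inr (𝟙 K))).f n +
      (biprod.desc (-mappingCone.inr f) (mappingCone.map (𝟙 K) f (𝟙 K) f rfl)).f n ≫ cylS f n) =
        (biprod.inr : _ ⟶ L ⊞ mappingCone (𝟙 K)).f n := by
    rw [Preadditive.comp_add, cylR, Category.assoc, ← HomologicalComplex.comp_f_assoc biprod.inr,
      biprod.inr_snd, ← HomologicalComplex.comp_f_assoc biprod.inr, biprod.inr_desc, cylS,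
      biprod.lift_eq]
    refine mappingCone.ext_from (𝟙 K) (n + 1) n rfl ?_ ?_ <;>
      simp [mappingCone.map, Preadditive.add_comp, Preadditive.comp_add, Preadditive.comp_sub]
  have ht : ((biprod.fst : L ⊞ mappingCone (𝟙 K) ⟶ _) ≫ biprod.inl + biprod.snd ≫ biprod.inr).f n =
      𝟙 _ := by
    rw [biprod.total]
    rfl
  rw [← Category.id_comp (_ + _), ← ht, HomologicalComplex.add_f_apply, HomologicalComplex.comp_f,
    HomologicalComplex.comp_f, Preadditive.add_comp, Category.assoc, Category.assoc, h1, h2]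

/-- The cylinder sequence splits degreewise. -/
noncomputable def cylSplitting (n : ℤ) :
    ((cylSeq f).map (HomologicalComplex.eval C (ComplexShape.up ℤ) n)).Splitting where
  r := cylR n
  s := cylS f n
  f_r := cylR_spec f n
  s_g := cylS_spec f n
  id := cyl_id f n

variable (G : CochainComplex C ℤ ⥤ CochainComplex D ℤ) [G.Additive]
  (hG : ∀ (S : ShortComplex (CochainComplex C ℤ))
    (_ : ∀ n, (S.map (HomologicalComplex.eval C (ComplexShape.up ℤ) n)).Splitting),
      (S.map G).ShortExact)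

include hG in
/-- An additive functor exact on degreewise split sequences keeps `f` a quasi-isomorphism as soon
as the cones of `f` and of the identity become acyclic. -/
theorem quasiIso_map (h₁ : (G.obj (mappingCone (𝟙 K))).Acyclic)
    (h₂ : (G.obj (mappingCone f)).Acyclic) : QuasiIso (G.map f) := by
  have q₁ : QuasiIso (G.map (biprod.lift f (mappingCone.inr (𝟙 K)))) :=
    Groth.Agent.KInj.quasiIso_f_of_acyclic (hG (cylSeq f) (cylSplitting f)) h₂
  let S : ShortComplex (CochainComplex C ℤ) :=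
    ShortComplex.mk (biprod.inl : L ⟶ L ⊞ mappingCone (𝟙 K)) biprod.snd biprod.inl_snd
  let σ : S.Splitting := { r := biprod.fst, s := biprod.inr, id := biprod.total }
  have q₂ : QuasiIso (G.map (biprod.inl : L ⟶ L ⊞ mappingCone (𝟙 K))) :=
    Groth.Agent.KInj.quasiIso_f_of_acyclic
      (hG S fun n => σ.map (HomologicalComplex.eval C (ComplexShape.up ℤ) n)) h₁
  haveI : QuasiIso (G.map (biprod.inl : L ⟶ L ⊞ mappingCone (𝟙 K)) ≫
      G.map (biprod.fst : L ⊞ mappingCone (𝟙 K) ⟶ L)) := by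
    rw [← G.map_comp, biprod.inl_fst, G.map_id]
    infer_instance
  haveI q₃ : QuasiIso (G.map (biprod.fst : L ⊞ mappingCone (𝟙 K) ⟶ L)) :=
    quasiIso_of_comp_left (G.map (biprod.inl : L ⟶ L ⊞ mappingCone (𝟙 K))) _
  rw [← biprod.lift_fst f (mappingCone.inr (𝟙 K)), G.map_comp]
  infer_instance

end General

variable {C₁ : Type u₁} [Category.{v₁} C₁] {C₂ : Type u₂} [Category.{v₂} C₂]
  {D : Type u} [Category.{v} D] [Abelian C₁] [Abelian C₂] [Abelian D]
  (F : C₁ ⥤ C₂ ⥤ D) [F.Additive] [∀ X, (F.obj X).Additive]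
  [∀ (K₁ : CochainComplex C₁ ℤ) (K₂ : CochainComplex C₂ ℤ), CochainComplex.HasMapBifunctor K₁ K₂ F]
  [∀ n : ℤ, HasColimitsOfShape (Discrete (Idx n)) D]
  [∀ n : ℤ, HasExactColimitsOfShape (Discrete (Idx n)) D]

instance additive_flip : F.flip.Additive := ⟨fun {X Y f g} => by
  ext Z
  exact (F.obj Z).map_add⟩

instance additive_flip_obj (M : C₂) : (F.flip.obj M).Additive := ⟨fun {X Y f g} => by
  show (F.map (f + g)).app M = _
  rw [F.map_add]
  rfl⟩

/-- `Tot(- ⊗ K)` as a functor. -/
noncomputable abbrev totR (K : CochainComplex C₂ ℤ) : CochainComplex C₁ ℤ ⥤ CochainComplex D ℤ :=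
  F.map₂CochainComplex.flip.obj K

/-- The flip isomorphism as a natural isomorphism. -/
noncomputable def totRIso (K : CochainComplex C₂ ℤ) : tot F.flip K ≅ totR F K :=
  NatIso.ofComponents (fun L => HomologicalComplex.mapBifunctorFlipIso L K F (ComplexShape.up ℤ))
    fun {L L'} φ => HomologicalComplex.mapBifunctorFlipIso_hom_naturality φ (𝟙 K) F (ComplexShape.up ℤ)

instance additive_totR (K : CochainComplex C₂ ℤ) : (totR F K).Additive :=
  Functor.additive_of_iso (totRIso F K)

theorem shortExact_totR_of_splitting (K : CochainComplex C₂ ℤ) (S : ShortComplex (CochainComplex C₁ ℤ))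
    (σ : ∀ q, (S.map (HomologicalComplex.eval C₁ (ComplexShape.up ℤ) q)).Splitting) :
    (S.map (totR F K)).ShortExact :=
  ShortComplex.shortExact_of_iso (S.mapNatIso (totRIso F K))
    (shortExact_tot_of_splitting F.flip K S σ)

/-- Tensoring with a K-flat complex preserves quasi-isomorphisms. -/
theorem quasiIso_totR_map {K : CochainComplex C₂ ℤ} (hK : IsKFlatFor F K)
    {L L' : CochainComplex C₁ ℤ} (f : L ⟶ L') [QuasiIso f] : QuasiIso ((totR F K).map f) :=
  quasiIso_map f (totR F K) (shortExact_totR_of_splitting F K)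
    (hK _ (acyclic_cone_of_quasiIso (𝟙 L))) (hK _ (acyclic_cone_of_quasiIso f))

theorem acyclic_tot_of_acyclic_of_isKFlatFor
    (hres : ∀ G : CochainComplex C₁ ℤ, ∃ (N : CochainComplex C₁ ℤ) (c : N ⟶ G),
      IsKFlatFor F.flip N ∧ QuasiIso c)
    (L : CochainComplex C₁ ℤ) {X : CochainComplex C₂ ℤ} (hX : X.Acyclic) (hX' : IsKFlatFor F X) :
    ((tot F L).obj X).Acyclic := by
  obtain ⟨N, c, hN, hc⟩ := hres L
  haveI := hc
  haveI : QuasiIso ((totR F X).map c) := quasiIso_totR_map F hX' c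
  intro n
  rw [HomologicalComplex.exactAt_iff_isZero_homology]
  refine IsZero.of_iso ?_ (asIso (HomologicalComplex.homologyMap ((totR F X).map c) n)).symm
  exact ((hN X hX n).of_iso ((totRIso F X).app N)).isZero_homology

/-- A quasi-isomorphism of K-flat complexes stays one after tensoring with any complex. -/
theorem quasiIso_tot_map
    (hres : ∀ G : CochainComplex C₁ ℤ, ∃ (N : CochainComplex C₁ ℤ) (c : N ⟶ G),
      IsKFlatFor F.flip N ∧ QuasiIso c)
    {P Q : CochainComplex C₂ ℤ} (hP : IsKFlatFor F P) (hQ : IsKFlatFor F Q) (α : P ⟶ Q) [QuasiIso α]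
    (L : CochainComplex C₁ ℤ) : QuasiIso ((tot F L).map α) :=
  quasiIso_map α (tot F L) (shortExact_tot_of_splitting F L)
    (acyclic_tot_of_acyclic_of_isKFlatFor F hres L (acyclic_cone_of_quasiIso (𝟙 P))
      ((twoOfThree_mappingCone F (𝟙 P)).1 hP hP))
    (acyclic_tot_of_acyclic_of_isKFlatFor F hres L (acyclic_cone_of_quasiIso α)
      ((twoOfThree_mappingCone F α).1 hP hQ))

end Groth.Agent.KFlat
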