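import Groth.Agent.KFlat.Bifunctor

/-!
# Functors commuting with total complexes of bifunctors
-/

set_option linter.style.haveILetI false
set_option linter.unusedSectionVars false

universe v₁ v₂ v v' u₁ u₂ u u'

open CategoryTheory Limits HomologicalComplex

noncomputable section

namespace Groth.Agent.KFlat

variable {C₁ : Type u₁} [Category.{v₁} C₁] {C₂ : Type u₂} [Category.{v₂} C₂]
  {D : Type u} [Category.{v} D] {D' : Type u'} [Category.{v'} D']
  [Abelian C₁] [Abelian C₂] [Abelian D] [Abelian D']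
  {F : C₁ ⥤ C₂ ⥤ D} [F.Additive] [∀ X, (F.obj X).Additive]
  [∀ (K₁ : CochainComplex C₁ ℤ) (K₂ : CochainComplex C₂ ℤ), CochainComplex.HasMapBifunctor K₁ K₂ F]
  {F' : C₁ ⥤ C₂ ⥤ D'} [F'.Additive] [∀ X, (F'.obj X).Additive]
  [∀ (K₁ : CochainComplex C₁ ℤ) (K₂ : CochainComplex C₂ ℤ), CochainComplex.HasMapBifunctor K₁ K₂ F']
  {G : D ⥤ D'} [G.Additive] (e : F ⋙ (Functor.whiskeringRight _ _ _).obj G ≅ F')
  (L : CochainComplex C₁ ℤ) (K : CochainComplex C₂ ℤ)

/-- The comparison map of a total complex with the image of a total complex, in each degree. -/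
def mapTotX (n : ℤ) : (mapBifunctor L K F' (ComplexShape.up ℤ)).X n ⟶
    G.obj ((mapBifunctor L K F (ComplexShape.up ℤ)).X n) :=
  mapBifunctorDesc fun p q h => (e.inv.app (L.X p)).app (K.X q) ≫
    G.map (ιMapBifunctor L K F (ComplexShape.up ℤ) p q n h)

theorem ι_mapTotX (p q n : ℤ)
    (h : ComplexShape.π (ComplexShape.up ℤ) (ComplexShape.up ℤ) (ComplexShape.up ℤ) (p, q) = n) :
    ιMapBifunctor L K F' (ComplexShape.up ℤ) p q n h ≫ mapTotX e L K n =
      (e.inv.app (L.X p)).app (K.X q) ≫ G.map (ιMapBifunctor L K F (ComplexShape.up ℤ) p q n h) :=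
  ι_mapBifunctorDesc _ p q h

theorem mapTotX_comm (n n' : ℤ) (hn : n + 1 = n') :
    mapTotX e L K n ≫ G.map ((mapBifunctor L K F (ComplexShape.up ℤ)).d n n') =
      (mapBifunctor L K F' (ComplexShape.up ℤ)).d n n' ≫ mapTotX e L K n' := by
  refine mapBifunctor.hom_ext fun p q h => ?_
  have h' : p + q = n := h
  have hp : (p + 1) + q = n' := by omega
  have hq : p + (q + 1) = n' := by omega
  rw [← Category.assoc, ι_mapTotX, Category.assoc, ← G.map_comp, mapBifunctor.d_eq,
    mapBifunctor.d_eq, Preadditive.comp_add, mapBifunctor.ι_D₁, mapBifunctor.ι_D₂,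
    Preadditive.add_comp, Preadditive.comp_add, mapBifunctor.ι_D₁_assoc, mapBifunctor.ι_D₂_assoc,
    mapBifunctor.d₁_eq L K F (ComplexShape.up ℤ) (i₁' := p + 1) rfl q n' hp,
    mapBifunctor.d₂_eq L K F (ComplexShape.up ℤ) p (i₂' := q + 1) rfl n' hq,
    mapBifunctor.d₁_eq L K F' (ComplexShape.up ℤ) (i₁' := p + 1) rfl q n' hp,
    mapBifunctor.d₂_eq L K F' (ComplexShape.up ℤ) p (i₂' := q + 1) rfl n' hq]
  simp only [G.map_add, Preadditive.comp_add, Linear.units_smul_comp, Category.assoc, ι_mapTotX,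
    Units.smul_def, G.map_zsmul, Preadditive.comp_zsmul, Preadditive.zsmul_comp]
  refine congrArg₂ (· + ·) (congrArg _ ?_) (congrArg _ ?_)
  · rw [G.map_comp, ← Category.assoc, ← Category.assoc]
    exact congrArg (· ≫ _) (congr_app (e.inv.naturality (L.d p (p + 1))) (K.X q)).symm
  · rw [G.map_comp, ← Category.assoc, ← Category.assoc]
    exact congrArg (· ≫ _) ((e.inv.app (L.X p)).naturality (K.d q (q + 1))).symm

variable [∀ n : ℤ, PreservesColimitsOfShape (Discrete (Idx n)) G]
  [∀ n : ℤ, HasColimitsOfShape (Discrete (Idx n)) D] [∀ n : ℤ, HasColimitsOfShape (Discrete (Idx n)) D']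

theorem isIso_mapTotX (n : ℤ) : IsIso (mapTotX e L K n) := by
  let f : Idx n → D := fun i => (F.obj (L.X i.1.1)).obj (K.X i.1.2)
  let f' : Idx n → D' := fun i => (F'.obj (L.X i.1.1)).obj (K.X i.1.2)
  let α : ∀ i : Idx n, f' i ≅ G.obj (f i) := fun i => (e.symm.app (L.X i.1.1)).app (K.X i.1.2)
  have : mapTotX e L K n = (Limits.Sigma.mapIso α).hom ≫ sigmaComparison G f := by
    refine mapBifunctor.hom_ext fun p q h => ?_
    rw [ι_mapTotX]
    let i : Idx n := ⟨(p, q), h⟩
    show _ = Sigma.ι f' i ≫ (Limits.Sigma.mapIso α).hom ≫ sigmaComparison G f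
    rw [Limits.Sigma.ι_mapIso_hom_assoc, ι_comp_sigmaComparison]
    rfl
  rw [this]
  exact IsIso.comp_isIso' (Iso.isIso_hom _) (Iso.isIso_inv (PreservesCoproduct.iso G f))

/-- An additive functor commuting with the summands commutes with the total complex. -/
def mapTotIso : (G.mapHomologicalComplex (ComplexShape.up ℤ)).obj ((tot F L).obj K) ≅
    (tot F' L).obj K :=
  (Hom.isoOfComponents (fun n => @asIso _ _ _ _ (mapTotX e L K n) (isIso_mapTotX e L K n))
    fun n n' hn => mapTotX_comm e L K n n' hn).symm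

end Groth.Agent.KFlat
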