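import Groth.Agent.KFlat.ResolutionMain
import Groth.Prelude.Def_DRing2

/-!
# K-flat complexes of modules over a commutative ring
-/

set_option linter.style.haveILetI false
set_option linter.unusedSectionVars false

universe u

open CategoryTheory Limits MonoidalCategory TensorProduct

namespace Groth.Agent.KFlat

section LTensor

variable {R : Type u} [CommRing R] {A B C : Type u} [AddCommGroup A] [AddCommGroup B] [AddCommGroup C]
  [Module R A] [Module R B] [Module R C]

/-- Tensoring keeps an injection injective when the cokernel is flat. -/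
theorem lTensor_injective_of_flat_cokernel (f : A →ₗ[R] B) (g : B →ₗ[R] C) (hf : Function.Injective f)
    (hfg : Function.Exact f g) (hg : Function.Surjective g) [Module.Flat R C]
    (G : Type u) [AddCommGroup G] [Module R G] : Function.Injective (f.lTensor G) := by
  let π : (G →₀ R) →ₗ[R] G := Finsupp.linearCombination R id
  have hπ : Function.Surjective π := fun b => ⟨Finsupp.single b 1, by simp [π]⟩
  let ι := (LinearMap.ker π).subtype
  have hι : Function.Exact ι π := LinearMap.exact_subtype_ker_map π
  refine (injective_iff_map_eq_zero _).2 fun x hx => ?_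
  obtain ⟨p, rfl⟩ := LinearMap.rTensor_surjective A hπ x
  have hc : ∀ {M M' : Type u} [AddCommMonoid M] [Module R M] [AddCommMonoid M'] [Module R M']
      {Y Y' : Type u} [AddCommMonoid Y] [Module R Y] [AddCommMonoid Y'] [Module R Y']
      (a : M →ₗ[R] M') (b : Y →ₗ[R] Y') (t : M ⊗[R] Y),
      b.lTensor M' (a.rTensor Y t) = a.rTensor Y' (b.lTensor M t) := by
    intro M M' _ _ _ _ Y Y' _ _ _ _ a b t
    rw [← LinearMap.comp_apply, ← LinearMap.comp_apply, LinearMap.lTensor_comp_rTensor,
      LinearMap.rTensor_comp_lTensor]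
  rw [hc] at hx
  obtain ⟨n, hn⟩ := (rTensor_exact (M := LinearMap.ker π) (f := ι) B hι hπ _).1 hx
  have h1 : g.lTensor _ n = 0 := by
    apply Module.Flat.rTensor_preserves_injective_linearMap (M := C) ι Subtype.val_injective
    rw [← hc, hn, map_zero, ← LinearMap.lTensor_comp_apply, hfg.linearMap_comp_eq_zero,
      LinearMap.lTensor_zero, LinearMap.zero_apply]
  obtain ⟨m, hm⟩ := (lTensor_exact (LinearMap.ker π) hfg hg n).1 h1
  have h2 : p = ι.rTensor A m := by
    apply Module.Flat.lTensor_preserves_injective_linearMap (M := G →₀ R) f hf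
    rw [hc, hm, hn]
  rw [h2, ← LinearMap.rTensor_comp_apply, hι.linearMap_comp_eq_zero, LinearMap.rTensor_zero,
    LinearMap.zero_apply]

end LTensor

variable (R : Type u) [CommRing R]

instance hasExactColimitsOfShape_nat_moduleCat :
    HasExactColimitsOfShape ℕ (ModuleCat.{u} R) := by
  haveI : HasFilteredColimitsOfSize.{0, 0} (ModuleCat.{u} R) :=
    hasFilteredColimitsOfSize_of_univLE.{0, 0, u, u}
  haveI : AB5OfSize.{0, 0} (ModuleCat.{u} R) := AB5OfSize_of_univLE.{0, 0, u, u} _
  infer_instance

theorem flat_prod (M M' : Type u) [AddCommGroup M] [Module R M] [AddCommGroup M'] [Module R M']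
    [Module.Flat R M] [Module.Flat R M'] : Module.Flat R (M × M') := by
  refine Module.Flat.iff_rTensor_preserves_injective_linearMap.mpr fun N N' _ _ _ _ f hf => ?_
  have e : (TensorProduct.prodRight R R N' M M').toLinearMap ∘ₗ f.rTensor (M × M') =
      (f.rTensor M).prodMap (f.rTensor M') ∘ₗ (TensorProduct.prodRight R R N M M').toLinearMap := by
    ext <;> simp
  have h : Function.Injective ((f.rTensor M).prodMap (f.rTensor M') ∘ₗ
      (TensorProduct.prodRight R R N M M').toLinearMap) :=
    ((Module.Flat.rTensor_preserves_injective_linearMap f hf).prodMap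
      (Module.Flat.rTensor_preserves_injective_linearMap f hf)).comp (LinearEquiv.injective _)
  rw [← e] at h
  exact Function.Injective.of_comp h

theorem goodObj_of_flat {M : ModuleCat.{u} R} (hM : Module.Flat R M) :
    GoodObj (curriedTensor (ModuleCat.{u} R)) M := fun S hS => by
  rw [ShortComplex.ShortExact.moduleCat_exact_iff_function_exact] at hS ⊢
  exact Module.Flat.rTensor_exact M hS

theorem flat_of_isColimit {I : Type} [SmallCategory I] [IsFiltered I] (K : I ⥤ ModuleCat.{u} R)
    (c : Cocone K) (hc : IsColimit c) (h : ∀ i, Module.Flat R (K.obj i)) : Module.Flat R c.pt := by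
  refine Module.Flat.iff_rTensor_preserves_injective_linearMap.mpr fun N N' _ _ _ _ f hf => ?_
  haveI : HasFilteredColimitsOfSize.{0, 0} (ModuleCat.{u} R) :=
    hasFilteredColimitsOfSize_of_univLE.{0, 0, u, u}
  haveI : AB5OfSize.{0, 0} (ModuleCat.{u} R) := AB5OfSize_of_univLE.{0, 0, u, u} _
  haveI : HasExactColimitsOfShape I (ModuleCat.{u} R) := inferInstance
  let φ : ModuleCat.of R N ⟶ ModuleCat.of R N' := ModuleCat.ofHom f
  let α : K ⋙ tensorLeft (ModuleCat.of R N) ⟶ K ⋙ tensorLeft (ModuleCat.of R N') :=
    Functor.whiskerLeft K ((curriedTensor (ModuleCat.{u} R)).map φ)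
  haveI : ∀ i, Mono (α.app i) := fun i => by
    rw [ModuleCat.mono_iff_injective]
    haveI := h i
    exact Module.Flat.rTensor_preserves_injective_linearMap f hf
  haveI : Mono α := NatTrans.mono_of_mono_app α
  have := colim.map_mono' α (isColimitOfPreserves (tensorLeft (ModuleCat.of R N)) hc)
    (isColimitOfPreserves (tensorLeft (ModuleCat.of R N')) hc) (φ ▷ c.pt)
    fun i => (whisker_exchange φ (c.ι.app i))
  exact (ModuleCat.mono_iff_injective _).1 this

/-- The class of flat modules. -/
theorem flatClass :
    FlatClass (curriedTensor (ModuleCat.{u} R)) (fun M : ModuleCat.{u} R => Module.Flat R M) where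
  good _ hM := goodObj_of_flat R hM
  iso e hM := Module.Flat.of_linearEquiv e.toLinearEquiv.symm
  zero hM := by
    haveI := ModuleCat.subsingleton_of_isZero hM
    infer_instance
  biprod {M M'} hM hM' := by
    haveI : Module.Flat R (ModuleCat.of R (M × M') : Type u) := @flat_prod R _ M M' _ _ _ _ hM hM'
    exact Module.Flat.of_linearEquiv (ModuleCat.biprodIsoProd M M').toLinearEquiv
  seq K c hc h := flat_of_isColimit R K c hc h
  cover X := by
    let π : (X →₀ R) →ₗ[R] X := Finsupp.linearCombination R id
    refine ⟨ModuleCat.of R (X →₀ R), ModuleCat.ofHom π, Module.Flat.finsupp X,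
      (ModuleCat.epi_iff_surjective _).2 fun b => ⟨Finsupp.single b 1, ?_⟩⟩
    simp [π]

theorem shortExact_tensorLeft_of_flat (S : ShortComplex (ModuleCat.{u} R)) (hS : S.ShortExact)
    (h : Module.Flat R S.X₃) (G : ModuleCat.{u} R) :
    (S.map ((curriedTensor (ModuleCat.{u} R)).obj G)).ShortExact := by
  have hex := (ShortComplex.ShortExact.moduleCat_exact_iff_function_exact S).1 hS.exact
  have hinj := (ModuleCat.mono_iff_injective _).1 hS.mono_f
  have hsurj := (ModuleCat.epi_iff_surjective _).1 hS.epi_g
  exact
    { exact := (ShortComplex.ShortExact.moduleCat_exact_iff_function_exact _).2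
        (lTensor_exact G hex hsurj)
      mono_f := (ModuleCat.mono_iff_injective _).2
        (lTensor_injective_of_flat_cokernel S.f.hom S.g.hom hinj hex hsurj G)
      epi_g := (ModuleCat.epi_iff_surjective _).2 (LinearMap.lTensor_surjective G hsurj) }

theorem isKFlatFor_iff_tensor (K : CochainComplex (ModuleCat.{u} R) ℤ) :
    IsKFlatFor (curriedTensor (ModuleCat.{u} R)) K ↔
      ∀ L : CochainComplex (ModuleCat.{u} R) ℤ, (∀ i : ℤ, IsZero (L.homology i)) →
        ∀ i : ℤ, IsZero ((L ⊗ K).homology i) :=
  isKFlatFor_iff_isZero_homology _ K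

end Groth.Agent.KFlat
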