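import Groth.Agent.KFlat.Module
import Groth.Agent.KFlat.QuasiIso

/-!
# K-flat complexes of modules and quasi-isomorphisms
-/

set_option linter.style.haveILetI false
set_option linter.unusedSectionVars false

universe u

open CategoryTheory Limits MonoidalCategory

namespace Groth.Agent.KFlat

variable (R : Type u) [CommRing R]

instance preservesColimitsOfShape_flip_curriedTensor {I : Type} [SmallCategory I] (M : ModuleCat.{u} R) :
    PreservesColimitsOfShape I ((curriedTensor (ModuleCat.{u} R)).flip.obj M) :=
  inferInstanceAs (PreservesColimitsOfShape I (tensorRight M))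

theorem goodObj_flip_of_flat {M : ModuleCat.{u} R} (hM : Module.Flat R M) :
    GoodObj (curriedTensor (ModuleCat.{u} R)).flip M := fun S hS => by
  rw [ShortComplex.ShortExact.moduleCat_exact_iff_function_exact] at hS ⊢
  exact Module.Flat.lTensor_exact M hS

/-- The class of flat modules, for the flipped tensor product. -/
theorem flatClassFlip :
    FlatClass (curriedTensor (ModuleCat.{u} R)).flip (fun M : ModuleCat.{u} R => Module.Flat R M) where
  good _ hM := goodObj_flip_of_flat R hM
  iso e hM := (flatClass R).iso e hM
  zero hM := (flatClass R).zero hM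
  biprod hM hM' := (flatClass R).biprod hM hM'
  seq K c hc h := (flatClass R).seq K c hc h
  cover X := (flatClass R).cover X

theorem exists_resolution_flip (G : CochainComplex (ModuleCat.{u} R) ℤ) :
    ∃ (N : CochainComplex (ModuleCat.{u} R) ℤ) (c : N ⟶ G),
      IsKFlatFor (curriedTensor (ModuleCat.{u} R)).flip N ∧ QuasiIso c := by
  obtain ⟨N, c, h1, -, h3, -⟩ := exists_resolution (flatClassFlip R) G
  exact ⟨N, c, h1, h3⟩

end Groth.Agent.KFlat
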