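import Mathlib

/-!
# Exactness of colimits of complexes
-/

set_option linter.style.haveILetI false
set_option linter.unusedSectionVars false

universe v u v' u'

open CategoryTheory Limits

namespace Groth.Agent.KFlat

variable {D : Type u} [Category.{v} D] [Abelian D] {I : Type u'} [Category.{v'} I]

/-- A short complex of functors is exact if it is exact objectwise. -/
theorem exact_of_pointwise (S : ShortComplex (I ⥤ D))
    (h : ∀ i, (S.map ((evaluation I D).obj i)).Exact) : S.Exact := by
  rw [S.exact_iff_isZero_homology, Functor.isZero_iff]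
  intro i
  exact ((S.map ((evaluation I D).obj i)).exact_iff_isZero_homology.1 (h i)).of_iso
    (S.mapHomologyIso ((evaluation I D).obj i)).symm

theorem shortExact_of_pointwise (S : ShortComplex (I ⥤ D))
    (h : ∀ i, (S.map ((evaluation I D).obj i)).ShortExact) : S.ShortExact where
  exact := exact_of_pointwise S fun i => (h i).exact
  mono_f := by
    haveI : ∀ i, Mono (S.f.app i) := fun i => (h i).mono_f
    exact NatTrans.mono_of_mono_app _
  epi_g := by
    haveI : ∀ i, Epi (S.g.app i) := fun i => (h i).epi_g
    exact NatTrans.epi_of_epi_app _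

section

variable [HasColimitsOfShape I D] [HasExactColimitsOfShape I D]

instance preservesFiniteLimits_colim : PreservesFiniteLimits (colim : (I ⥤ D) ⥤ D) :=
  HasExactColimitsOfShape.preservesFiniteLimits

instance preservesHomology_colim : (colim : (I ⥤ D) ⥤ D).PreservesHomology := by
  haveI : PreservesFiniteColimits (colim : (I ⥤ D) ⥤ D) := inferInstance
  infer_instance

theorem exact_colim (S : ShortComplex (I ⥤ D)) (h : ∀ i, (S.map ((evaluation I D).obj i)).Exact) :
    (S.map colim).Exact :=
  (exact_of_pointwise S h).map colim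

theorem shortExact_colim (S : ShortComplex (I ⥤ D))
    (h : ∀ i, (S.map ((evaluation I D).obj i)).ShortExact) : (S.map colim).ShortExact :=
  (shortExact_of_pointwise S h).map_of_exact colim

end

variable {ι : Type*} {c : ComplexShape ι}

/-- A colimit of acyclic complexes is acyclic when colimits of that shape are exact. -/
theorem exactAt_of_isColimit [HasColimitsOfShape I D] [HasExactColimitsOfShape I D]
    (K : I ⥤ HomologicalComplex D c) (s : Cocone K) (hs : IsColimit s) (n : ι)
    (h : ∀ i, (K.obj i).ExactAt n) : s.pt.ExactAt n := by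
  let e : ∀ m, colimit (K ⋙ HomologicalComplex.eval D c m) ≅ s.pt.X m := fun m =>
    (colimit.isColimit _).coconePointUniqueUpToIso
      (isColimitOfPreserves (HomologicalComplex.eval D c m) hs)
  have he : ∀ m i, colimit.ι (K ⋙ HomologicalComplex.eval D c m) i ≫ (e m).hom = (s.ι.app i).f m :=
    fun m i => IsColimit.comp_coconePointUniqueUpToIso_hom _ _ i
  let dnat : ∀ a b, K ⋙ HomologicalComplex.eval D c a ⟶ K ⋙ HomologicalComplex.eval D c b := fun a b =>
    { app := fun i => (K.obj i).d a b
      naturality := fun i j f => (K.map f).comm a b }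
  let S : ShortComplex (I ⥤ D) := ShortComplex.mk (dnat (c.prev n) n) (dnat n (c.next n)) (by
    ext i
    exact (K.obj i).d_comp_d _ _ _)
  have hS : (S.map colim).Exact := exact_colim S fun i => h i
  have comm : ∀ a b, colim.map (dnat a b) ≫ (e b).hom = (e a).hom ≫ s.pt.d a b := fun a b => by
    refine colimit.hom_ext fun i => ?_
    rw [show colim.map (dnat a b) = colimMap (dnat a b) from rfl, ι_colimMap_assoc, he,
      reassoc_of% (he a i)]
    refine Eq.trans ?_ ((s.ι.app i).comm a b).symm
    rfl
  refine ShortComplex.exact_of_iso ?_ hS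
  exact ShortComplex.isoMk (e (c.prev n)) (e n) (e (c.next n)) (comm _ _).symm (comm _ _).symm

variable {S : ShortComplex (HomologicalComplex D c)} (hS : S.ShortExact)

include hS in
theorem acyclic_X₂ (h₁ : S.X₁.Acyclic) (h₃ : S.X₃.Acyclic) : S.X₂.Acyclic := fun i => by
  rw [HomologicalComplex.exactAt_iff_isZero_homology]
  exact (hS.homology_exact₂ i).isZero_of_both_zeros
    ((h₁ i).isZero_homology.eq_of_src _ _) ((h₃ i).isZero_homology.eq_of_tgt _ _)

end Groth.Agent.KFlat

namespace Groth.Agent.KFlat

variable {D : Type u} [Category.{v} D] [Abelian D]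
  {S : ShortComplex (CochainComplex D ℤ)} (hS : S.ShortExact)

include hS in
theorem acyclic_X₁ (h₂ : S.X₂.Acyclic) (h₃ : S.X₃.Acyclic) : S.X₁.Acyclic := fun i => by
  rw [HomologicalComplex.exactAt_iff_isZero_homology]
  exact (hS.homology_exact₁ (i - 1) i (by simp)).isZero_of_both_zeros
    ((h₃ (i - 1)).isZero_homology.eq_of_src _ _) ((h₂ i).isZero_homology.eq_of_tgt _ _)

include hS in
theorem acyclic_X₃ (h₁ : S.X₁.Acyclic) (h₂ : S.X₂.Acyclic) : S.X₃.Acyclic := fun i => by
  rw [HomologicalComplex.exactAt_iff_isZero_homology]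
  exact (hS.homology_exact₃ i (i + 1) (by simp)).isZero_of_both_zeros
    ((h₂ i).isZero_homology.eq_of_src _ _) ((h₁ (i + 1)).isZero_homology.eq_of_tgt _ _)

end Groth.Agent.KFlat
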