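import Groth.Agent.KFlat.Resolution

/-!
# Existence of K-flat resolutions
-/

set_option linter.style.haveILetI false
set_option linter.unusedSectionVars false

universe v₁ v₂ v u₁ u₂ u

open CategoryTheory Limits

namespace Groth.Agent.KFlat

variable {C₁ : Type u₁} [Category.{v₁} C₁] {C₂ : Type u₂} [Category.{v₂} C₂]
  {D : Type u} [Category.{v} D] [Abelian C₁] [Abelian C₂] [Abelian D]

/-- The hypotheses on a class of flat objects. -/
structure FlatClass (F : C₁ ⥤ C₂ ⥤ D) [F.Additive] [∀ X, (F.obj X).Additive] (Φ : C₂ → Prop) : Prop where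
  good : ∀ M, Φ M → GoodObj F M
  iso : ∀ {M M' : C₂}, (M ≅ M') → Φ M → Φ M'
  zero : ∀ {M : C₂}, IsZero M → Φ M
  biprod : ∀ {M M' : C₂}, Φ M → Φ M' → Φ (M ⊞ M')
  seq : ∀ (K : ℕ ⥤ C₂) (c : Cocone K), IsColimit c → (∀ i, Φ (K.obj i)) → Φ c.pt
  cover : ∀ X : C₂, ∃ (P : C₂) (π : P ⟶ X), Φ P ∧ Epi π

variable {F : C₁ ⥤ C₂ ⥤ D} [F.Additive] [∀ X, (F.obj X).Additive]
  [∀ (K₁ : CochainComplex C₁ ℤ) (K₂ : CochainComplex C₂ ℤ), CochainComplex.HasMapBifunctor K₁ K₂ F]
  [∀ n : ℤ, HasColimitsOfShape (Discrete (Idx n)) D]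
  [∀ n : ℤ, HasExactColimitsOfShape (Discrete (Idx n)) D]
  {Φ : C₂ → Prop}

section

open CochainComplex HomComplex

/-- The terms of a mapping cone. -/
noncomputable def coneXIso {K L : CochainComplex C₂ ℤ} (φ : K ⟶ L) (n : ℤ) :
    (mappingCone φ).X n ≅ K.X (n + 1) ⊞ L.X n where
  hom := biprod.lift ((mappingCone.fst φ).1.v n (n + 1) rfl) ((mappingCone.snd φ).v n n (add_zero n))
  inv := biprod.desc ((mappingCone.inl φ).v (n + 1) n (by omega)) ((mappingCone.inr φ).f n)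
  hom_inv_id := by
    refine mappingCone.ext_from φ (n + 1) n rfl ?_ ?_ <;> simp [biprod.lift_desc]
  inv_hom_id := by
    ext <;> simp

theorem FlatClass.cone (h : FlatClass F Φ) {K L : CochainComplex C₂ ℤ} (φ : K ⟶ L)
    (hK : ∀ n, Φ (K.X n)) (hL : ∀ n, Φ (L.X n)) (n : ℤ) : Φ ((mappingCone φ).X n) :=
  h.iso (coneXIso φ n).symm (h.biprod (hK _) (hL _))

variable [HasColimitsOfShape ℕ C₂] [HasExactColimitsOfShape ℕ C₂]
  [HasColimitsOfShape ℕ D] [HasExactColimitsOfShape ℕ D]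
  [∀ X, PreservesColimitsOfShape ℕ (F.obj X)]
  [HasColimitsOfShape (Discrete ℤ) C₂] [HasColimitsOfShape (Discrete ℤ) D]
  [HasExactColimitsOfShape (Discrete ℤ) D] [∀ X, PreservesColimitsOfShape (Discrete ℤ) (F.obj X)]

/-- A map from a K-flat complex factors through a K-flat complex quasi-isomorphic to the target. -/
theorem exists_factor (h : FlatClass F Φ) {K G : CochainComplex C₂ ℤ} (a : K ⟶ G)
    (hK : IsKFlatFor F K) :
    ∃ (N : CochainComplex C₂ ℤ) (b : K ⟶ N) (c : N ⟶ G), IsKFlatFor F N ∧ QuasiIso c ∧ b ≫ c = a ∧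
      ((∀ n, Φ (K.X n)) → ∀ n, Φ (N.X n)) := by
  classical
  choose cov π hcov hπ using h.cover
  let q : Stage G := ⟨K, a⟩
  haveI : ∀ X, Epi (π X) := hπ
  have hflat : ∀ i, IsKFlatFor F (stage cov π q i).1 := fun i => by
    induction i with
    | zero => exact hK
    | succ i ih =>
      exact (twoOfThree_mappingCone F (attach cov π (stage cov π q i))).1
        (isKFlatFor_zeroDiff F _ fun n => h.good _ (hcov _)) ih
  refine ⟨colimit (stageSeq cov π q), stageι cov π q 0, colimMap' cov π q,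
    isKFlatFor_of_isColimit F (stageSeq cov π q) (colimit.cocone _) (colimit.isColimit _) hflat,
    quasiIso_colimMap' cov π q, ι_colimMap' cov π q 0, fun hKΦ n => ?_⟩
  have hterm : ∀ i n, Φ ((stage cov π q i).1.X n) := fun i => by
    induction i with
    | zero => exact hKΦ
    | succ i ih => exact h.cone _ (fun m => hcov _) ih
  exact h.seq _ _ (isColimitOfPreserves (HomologicalComplex.eval C₂ (ComplexShape.up ℤ) n)
    (colimit.isColimit (stageSeq cov π q))) fun i => hterm i n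

/-- Every complex has a degreewise epimorphic K-flat resolution with flat terms. -/
theorem exists_resolution (h : FlatClass F Φ) (G : CochainComplex C₂ ℤ) :
    ∃ (N : CochainComplex C₂ ℤ) (c : N ⟶ G), IsKFlatFor F N ∧ (∀ n, Φ (N.X n)) ∧ QuasiIso c ∧
      ∀ n, Epi (c.f n) := by
  classical
  choose P π hP hπ using fun m : ℤ => h.cover (G.X (m - 1))
  let Q := zeroDiff P
  let α : Cochain Q G (-1) :=
    Cochain.mk fun p n hpn => π p ≫ (G.XIsoOfEq (show p - 1 = n by omega)).hom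
  let z : Cocycle Q G 0 := Cocycle.mk (δ (-1) 0 α) 1 (by omega) (δ_δ (-1) 0 1 α)
  let β : Q ⟶ G := Cocycle.homOf z
  let a : mappingCone (𝟙 Q) ⟶ G := mappingCone.desc (𝟙 Q) α β (by
    rw [Category.id_comp]
    exact (Cocycle.cochain_ofHom_homOf_eq_coe z).symm)
  have hQ : IsKFlatFor F Q := isKFlatFor_zeroDiff F P fun n => h.good _ (hP n)
  obtain ⟨N, b, c, hN, hc, hbc, hΦ⟩ := exists_factor h a ((twoOfThree_mappingCone F (𝟙 Q)).1 hQ hQ)
  refine ⟨N, c, hN, hΦ (h.cone _ hP hP), hc, fun n => ?_⟩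
  have e : (mappingCone.inl (𝟙 Q)).v (n + 1) n (by omega) ≫ b.f n ≫ c.f n =
      π (n + 1) ≫ (G.XIsoOfEq (show n + 1 - 1 = n by omega)).hom := by
    rw [← HomologicalComplex.comp_f, hbc]
    exact mappingCone.inl_v_desc_f _ _ _ _ _ _ _
  haveI : Epi (π (n + 1)) := hπ (n + 1)
  haveI : Epi (((mappingCone.inl (𝟙 Q)).v (n + 1) n (by omega) ≫ b.f n) ≫ c.f n) := by
    rw [Category.assoc, e]
    exact @epi_comp _ _ _ _ _ _ (hπ (n + 1)) _ inferInstance
  exact epi_of_epi ((mappingCone.inl (𝟙 Q)).v (n + 1) n _ ≫ b.f n) (c.f n)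

end

end Groth.Agent.KFlat
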