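import Groth.Agent.KFlat.ModSite
import Groth.Agent.KFlat.ResolutionMain
import Groth.Agent.ModTensor.FlatAcyclic

/-!
# K-flat resolutions of complexes of sheaves of modules
-/

set_option linter.style.haveILetI false
set_option linter.unusedSectionVars false

universe u

open CategoryTheory Limits

namespace Groth.Agent.KFlat

variable {C : Type u} [SmallCategory C] {J : GrothendieckTopology C} (O : Sheaf J CommRingCat.{u})

/-- The class of flat sheaves of modules. -/
theorem flatClassMod : FlatClass (ModSite.tensorBi O) (fun M : ModSite.Mod O => ModSite.IsFlat M) where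
  good _ hM := goodObj_of_isFlat O hM
  iso e hM := Groth.Agent.ModTensor.isFlat_of_iso O e hM
  zero hM := Groth.Agent.ModTensor.isFlat_of_isZero O hM
  biprod {M M'} hM hM' := by
    let S : ShortComplex (ModSite.Mod O) :=
      ShortComplex.mk (biprod.inl : M ⟶ M ⊞ M') (biprod.snd : M ⊞ M' ⟶ M') biprod.inl_snd
    have σ : S.Splitting := { r := biprod.fst, s := biprod.inr, id := biprod.total }
    exact Groth.Agent.ModTensor.isFlat_X₂ O S σ.shortExact hM hM'
  seq K c hc h := Groth.Agent.ModTensor.isFlat_of_isColimit O K h c hc
  cover X := Groth.Agent.ModTensor.exists_flat_cover O X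

end Groth.Agent.KFlat
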