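import Groth.Agent.KFlat.BddAbove
import Groth.Agent.KInj.Colim

/-!
# Resolutions by K-flat complexes

Starting from a map `a : K ⟶ G` of complexes we kill, step by step, the cycles of the mapping cone
by attaching cells made of good objects; the colimit is quasi-isomorphic to `G`.
-/

set_option linter.style.haveILetI false
set_option linter.unusedSectionVars false

universe v₁ v₂ v u₁ u₂ u

open CategoryTheory Limits

namespace Groth.Agent.KFlat

open CochainComplex HomComplex

section

variable {C : Type u₂} [Category.{v₂} C] [Abelian C]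

/-- A sequential colimit of complexes is exact if the transition maps kill homology. -/
theorem exactAt_of_homologyMap_eq_zero [HasColimitsOfShape ℕ C] [HasExactColimitsOfShape ℕ C]
    (K : ℕ ⥤ CochainComplex C ℤ) (s : Cocone K) (hs : IsColimit s) (n : ℤ)
    (h : ∀ i, HomologicalComplex.homologyMap (K.map (homOfLE (Nat.le_succ i))) n = 0) :
    s.pt.ExactAt n := by
  let c := ComplexShape.up ℤ
  let e : ∀ m, colimit (K ⋙ HomologicalComplex.eval C c m) ≅ s.pt.X m := fun m =>
    (colimit.isColimit _).coconePointUniqueUpToIso
      (isColimitOfPreserves (HomologicalComplex.eval C c m) hs)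
  have he : ∀ m i, colimit.ι (K ⋙ HomologicalComplex.eval C c m) i ≫ (e m).hom = (s.ι.app i).f m :=
    fun m i => IsColimit.comp_coconePointUniqueUpToIso_hom _ _ i
  let dnat : ∀ a b, K ⋙ HomologicalComplex.eval C c a ⟶ K ⋙ HomologicalComplex.eval C c b := fun a b =>
    { app := fun i => (K.obj i).d a b
      naturality := fun i j f => (K.map f).comm a b }
  let S : ShortComplex (ℕ ⥤ C) := ShortComplex.mk (dnat (c.prev n) n) (dnat n (c.next n)) (by
    ext i
    exact (K.obj i).d_comp_d _ _ _)
  have hz : ∀ i, S.homology.map (homOfLE (Nat.le_succ i)) = 0 := fun i => by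
    have e1 := NatTrans.app_homology ((evaluation ℕ C).map (homOfLE (Nat.le_succ i))) S
    refine e1.trans ?_
    rw [show ShortComplex.homologyMap (S.mapNatTrans ((evaluation ℕ C).map (homOfLE (Nat.le_succ i)))) =
      0 from h i, zero_comp, comp_zero]
  have hS : (S.map colim).Exact := by
    rw [ShortComplex.exact_iff_isZero_homology]
    refine IsZero.of_iso ?_ (S.mapHomologyIso colim)
    refine (IsZero.iff_id_eq_zero _).2 (colimit.hom_ext fun i => ?_)
    rw [← colimit.w S.homology (homOfLE (Nat.le_succ i)), hz]
    simp
  have comm : ∀ a b, colim.map (dnat a b) ≫ (e b).hom = (e a).hom ≫ s.pt.d a b := fun a b => by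
    refine colimit.hom_ext fun i => ?_
    rw [show colim.map (dnat a b) = colimMap (dnat a b) from rfl, ι_colimMap_assoc, he,
      reassoc_of% (he a i)]
    exact ((s.ι.app i).comm a b).symm
  refine ShortComplex.exact_of_iso ?_ hS
  exact ShortComplex.isoMk (e (c.prev n)) (e n) (e (c.next n)) (comm _ _).symm (comm _ _).symm

/-- A complex map with acyclic cone is a quasi-isomorphism. -/
theorem quasiIso_of_acyclic_cone {K L : CochainComplex C ℤ} (φ : K ⟶ L)
    (h : (mappingCone φ).Acyclic) : QuasiIso φ := by
  rw [← HomologicalComplex.mem_quasiIso_iff, ← HomotopyCategory.quotient_map_mem_quasiIso_iff,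
    HomotopyCategory.quasiIso_eq_trW_subcategoryAcyclic]
  exact ObjectProperty.trW.mk _ (HomotopyCategory.mappingCone_triangleh_distinguished φ)
    ((HomotopyCategory.quotient_obj_mem_subcategoryAcyclic_iff_exactAt _).2 h)

variable {G : CochainComplex C ℤ}

/-- One stage of the construction: a complex mapping to `G`. -/
abbrev Stage (G : CochainComplex C ℤ) := Σ N : CochainComplex C ℤ, N ⟶ G

variable (cov : C → C) (π : ∀ X, cov X ⟶ X) (q : Stage G)

/-- The cells attached at one step. -/
noncomputable abbrev cells (m : ℤ) : C := cov ((mappingCone q.2).cycles (m - 1))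

/-- The `N`-component of the universal cycle. -/
noncomputable def cellZ (m : ℤ) : cells cov q m ⟶ q.1.X m :=
  π _ ≫ (mappingCone q.2).iCycles (m - 1) ≫ (mappingCone.fst q.2).1.v (m - 1) m (by omega)

/-- The `G`-component of the universal cycle. -/
noncomputable def cellW (m n : ℤ) (h : n + 1 = m) : cells cov q m ⟶ G.X n :=
  π _ ≫ (mappingCone q.2).iCycles (m - 1) ≫
    (mappingCone.snd q.2).v (m - 1) (m - 1) (add_zero _) ≫ (G.XIsoOfEq (show m - 1 = n by omega)).hom

theorem cell_eq (m n : ℤ) (h : n + 1 = m) :
    π _ ≫ (mappingCone q.2).iCycles (m - 1) ≫ ((mappingCone q.2).XIsoOfEq (show m - 1 = n by omega)).hom =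
      cellZ cov π q m ≫ (mappingCone.inl q.2).v m n (by omega) +
        cellW cov π q m n h ≫ (mappingCone.inr q.2).f n := by
  obtain rfl : n = m - 1 := by omega
  apply mappingCone.ext_to q.2 (m - 1) m (by omega) <;> simp [cellZ, cellW, Preadditive.add_comp]

theorem cellZ_d (m m' : ℤ) : cellZ cov π q m ≫ q.1.d m m' = 0 := by
  by_cases h : m + 1 = m'
  · have h0 := congr_arg (· ≫ (mappingCone.fst q.2).1.v m m' h)
      ((mappingCone q.2).iCycles_d (m - 1) m)
    simp only [Category.assoc, zero_comp,
      mappingCone.d_fst_v q.2 (m - 1) m m' (by omega) h, Preadditive.comp_neg,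
      Preadditive.neg_comp, neg_eq_zero] at h0
    simp only [cellZ, Category.assoc, h0, comp_zero]
  · rw [q.1.shape _ _ h, comp_zero]

theorem cellZ_comp (m : ℤ) :
    cellZ cov π q m ≫ q.2.f m + cellW cov π q m (m - 1) (by omega) ≫ G.d (m - 1) m = 0 := by
  have h0 := congr_arg (· ≫ (mappingCone.snd q.2).v m m (add_zero m))
    ((mappingCone q.2).iCycles_d (m - 1) m)
  simp only [Category.assoc, zero_comp, mappingCone.d_snd_v q.2 (m - 1) m (by omega),
    Preadditive.comp_add] at h0
  simp only [cellZ, cellW, Category.assoc, HomologicalComplex.XIsoOfEq_rfl, Iso.refl_hom,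
    Category.id_comp, ← Preadditive.comp_add, h0, comp_zero]

/-- The attaching map. -/
noncomputable def attach : zeroDiff (cells cov q) ⟶ q.1 where
  f m := cellZ cov π q m
  comm' m m' _ := (cellZ_d cov π q m m').trans zero_comp.symm

/-- The null homotopy in `G` of the attaching map. -/
noncomputable def attachHomotopy : Cochain (zeroDiff (cells cov q)) G (-1) :=
  Cochain.mk fun p n h => -cellW cov π q p n (by omega)

theorem δ_attachHomotopy :
    δ (-1) 0 (attachHomotopy cov π q) = Cochain.ofHom (attach cov π q ≫ q.2) := by
  ext p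
  rw [δ_v (-1) 0 (neg_add_cancel 1) (attachHomotopy cov π q) p p (add_zero p) (p - 1) (p + 1) rfl rfl,
    Cochain.ofHom_v]
  have hd : (zeroDiff (cells cov q)).d p (p + 1) = 0 := rfl
  rw [hd, zero_comp, smul_zero, add_zero]
  show (-cellW cov π q p (p - 1) _) ≫ G.d (p - 1) p = cellZ cov π q p ≫ q.2.f p
  rw [Preadditive.neg_comp]
  exact (eq_neg_of_add_eq_zero_left (cellZ_comp cov π q p)).symm

/-- The complex of the next stage. -/
noncomputable abbrev nextObj : CochainComplex C ℤ := mappingCone (attach cov π q)

/-- The map of the next stage. -/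
noncomputable abbrev nextMap : nextObj cov π q ⟶ G :=
  mappingCone.desc (attach cov π q) (attachHomotopy cov π q) q.2 (δ_attachHomotopy cov π q)

/-- The next stage. -/
noncomputable abbrev next : Stage G := ⟨nextObj cov π q, nextMap cov π q⟩

/-- The map to the next stage. -/
noncomputable def toNext : q.1 ⟶ nextObj cov π q := mappingCone.inr (attach cov π q)

theorem toNext_comp : toNext cov π q ≫ nextMap cov π q = q.2 :=
  mappingCone.inr_desc (attach cov π q) (attachHomotopy cov π q) q.2 (δ_attachHomotopy cov π q)

/-- The map between the cones of two consecutive stages. -/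
noncomputable def coneNext : mappingCone q.2 ⟶ mappingCone (nextMap cov π q) :=
  mappingCone.map _ _ (toNext cov π q) (𝟙 G) (by rw [Category.comp_id, toNext_comp])

theorem inl_coneNext (p n : ℤ) (h : p + (-1) = n) :
    (mappingCone.inl q.2).v p n h ≫ (coneNext cov π q).f n =
      (toNext cov π q).f p ≫ (mappingCone.inl (nextMap cov π q)).v p n h := by
  simp [coneNext, mappingCone.map]

theorem inr_coneNext (n : ℤ) :
    (mappingCone.inr q.2).f n ≫ (coneNext cov π q).f n = (mappingCone.inr (nextMap cov π q)).f n := by
  simp [coneNext, mappingCone.map]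

variable [∀ X, Epi (π X)]

/-- The map between consecutive cones kills homology. -/
theorem homologyMap_coneNext (n : ℤ) : HomologicalComplex.homologyMap (coneNext cov π q) n = 0 := by
  obtain ⟨m, rfl⟩ : ∃ m, n = m - 1 := ⟨n + 1, by omega⟩
  let q' := nextMap cov π q
  let iA : cells cov q m ⟶ (nextObj cov π q).X (m - 1) :=
    (mappingCone.inl (attach cov π q)).v m (m - 1) (by omega)
  let y : cells cov q m ⟶ (mappingCone q').X (m - 1 - 1) :=
    -(iA ≫ (mappingCone.inl q').v (m - 1) (m - 1 - 1) (by omega))
  have hy : π _ ≫ (mappingCone q.2).iCycles (m - 1) ≫ (coneNext cov π q).f (m - 1) =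
      y ≫ (mappingCone q').d (m - 1 - 1) (m - 1) := by
    have e := cell_eq cov π q m (m - 1) (by omega)
    rw [HomologicalComplex.XIsoOfEq_rfl, Iso.refl_hom, Category.comp_id] at e
    rw [reassoc_of% e, Preadditive.add_comp, Category.assoc, Category.assoc,
      inl_coneNext, inr_coneNext]
    simp only [y, Preadditive.neg_comp, Category.assoc]
    rw [mappingCone.inl_v_d q' (m - 1) (m - 1 - 1) m (by omega) (by omega)]
    simp only [Preadditive.comp_sub]
    have e1 : iA ≫ q'.f (m - 1) =
        -cellW cov π q m (m - 1) (by omega) :=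
      mappingCone.inl_v_desc_f _ _ _ _ _ _ _
    have e2 : iA ≫
        (nextObj cov π q).d (m - 1) m = cellZ cov π q m ≫ (toNext cov π q).f m := by
      refine (mappingCone.inl_v_d (attach cov π q) m (m - 1) (m + 1) (by omega) (by omega)).trans ?_
      have hd : (zeroDiff (cells cov q)).d m (m + 1) = 0 := rfl
      rw [hd, zero_comp, sub_zero]
      rfl
    rw [reassoc_of% e1, reassoc_of% e2, Preadditive.neg_comp]
    abel
  let g : (mappingCone q.2).cycles (m - 1) ⟶ (mappingCone q').X (m - 1) :=
    (mappingCone q.2).iCycles (m - 1) ≫ (coneNext cov π q).f (m - 1)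
  rw [← cancel_epi ((mappingCone q.2).homologyπ (m - 1)), comp_zero,
    HomologicalComplex.homologyπ_naturality, ← cancel_epi (π ((mappingCone q.2).cycles (m - 1))),
    comp_zero]
  have key : π ((mappingCone q.2).cycles (m - 1)) ≫
      HomologicalComplex.cyclesMap (coneNext cov π q) (m - 1) =
      y ≫ (mappingCone q').toCycles (m - 1 - 1) (m - 1) := by
    rw [← cancel_mono ((mappingCone q').iCycles (m - 1)), Category.assoc, Category.assoc,
      HomologicalComplex.cyclesMap_i, HomologicalComplex.toCycles_i]
    exact hy
  rw [reassoc_of% key, HomologicalComplex.toCycles_comp_homologyπ, comp_zero]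

/-- The `i`-th stage. -/
noncomputable def stage : ℕ → Stage G
  | 0 => q
  | i + 1 => next cov π (stage i)

/-- The sequence of stages. -/
noncomputable def stageSeq : ℕ ⥤ CochainComplex C ℤ :=
  Functor.ofSequence fun i => toNext cov π (stage cov π q i)

theorem stageSeq_map (i : ℕ) :
    (stageSeq cov π q).map (homOfLE (Nat.le_succ i)) = toNext cov π (stage cov π q i) :=
  Functor.ofSequence_map_homOfLE_succ _ i

theorem stage_comp_eq (i : ℕ) :
    (stageSeq cov π q).map (homOfLE (Nat.le_succ i)) ≫ (stage cov π q (i + 1)).2 =
      (stage cov π q i).2 :=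
  (congr_arg (fun k : (stage cov π q i).1 ⟶ (stage cov π q (i + 1)).1 => k ≫ (stage cov π q (i + 1)).2)
    (stageSeq_map cov π q i)).trans (toNext_comp cov π (stage cov π q i))

/-- The stages map to `G`. -/
noncomputable def stageCocone : Cocone (stageSeq cov π q) where
  pt := G
  ι := NatTrans.ofSequence (fun i => (stage cov π q i).2) fun i =>
    (stage_comp_eq cov π q i).trans (Category.comp_id _).symm

/-- The sequence of cones. -/
noncomputable def coneSeq : ℕ ⥤ CochainComplex C ℤ :=
  Functor.ofSequence fun i => coneNext cov π (stage cov π q i)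

variable [HasColimitsOfShape ℕ C]

/-- The map from the colimit of the stages. -/
noncomputable def colimMap' : colimit (stageSeq cov π q) ⟶ G :=
  colimit.desc _ (stageCocone cov π q)

/-- The maps to the colimit of the stages. -/
noncomputable def stageι (i : ℕ) : (stage cov π q i).1 ⟶ colimit (stageSeq cov π q) :=
  colimit.ι (stageSeq cov π q) i

theorem ι_colimMap' (i : ℕ) :
    stageι cov π q i ≫ colimMap' cov π q = (stage cov π q i).2 :=
  colimit.ι_desc _ _

theorem stageSeq_w (i : ℕ) :
    toNext cov π (stage cov π q i) ≫ stageι cov π q (i + 1) = stageι cov π q i :=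
  (congr_arg (fun k : (stage cov π q i).1 ⟶ (stage cov π q (i + 1)).1 => k ≫ stageι cov π q (i + 1))
    (stageSeq_map cov π q i)).symm.trans (colimit.w (stageSeq cov π q) (homOfLE (Nat.le_succ i)))

theorem stageSeq_w_f (i : ℕ) (n : ℤ) :
    (toNext cov π (stage cov π q i)).f n ≫ (stageι cov π q (i + 1)).f n = (stageι cov π q i).f n :=
  congr_arg (fun k : (stage cov π q i).1 ⟶ colimit (stageSeq cov π q) => k.f n) (stageSeq_w cov π q i)

/-- The cones map to the cone of the colimit. -/
noncomputable def coneι (i : ℕ) :
    mappingCone (stage cov π q i).2 ⟶ mappingCone (colimMap' cov π q) :=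
  mappingCone.map _ _ (stageι cov π q i) (𝟙 G) (by
    rw [Category.comp_id, ι_colimMap'])

theorem coneι_succ (i : ℕ) :
    coneNext cov π (stage cov π q i) ≫ coneι cov π q (i + 1) = coneι cov π q i := by
  have h := mappingCone.map_comp (stage cov π q i).2 (stage cov π q (i + 1)).2 (colimMap' cov π q)
    (toNext cov π (stage cov π q i)) (𝟙 G)
    (by rw [Category.comp_id]; exact (toNext_comp cov π (stage cov π q i)).symm)
    (stageι cov π q (i + 1)) (𝟙 G) (by rw [Category.comp_id, ι_colimMap'])
  refine h.symm.trans ?_
  ext n
  refine mappingCone.ext_from _ (n + 1) n rfl ?_ ?_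
  · simp only [coneι, mappingCone.map]
    simp
    exact (Category.assoc _ _ _).symm.trans (congr_arg
      (fun k : (stage cov π q i).1.X (n + 1) ⟶ (colimit (stageSeq cov π q)).X (n + 1) =>
        k ≫ (mappingCone.inl (colimMap' cov π q)).v (n + 1) n (by omega)) (stageSeq_w_f cov π q i (n + 1)))
  · simp [coneι, mappingCone.map]

/-- The cocone of cones. -/
noncomputable def coneCocone : Cocone (coneSeq cov π q) where
  pt := mappingCone (colimMap' cov π q)
  ι := NatTrans.ofSequence (fun i => coneι cov π q i) fun i => by
    refine Eq.trans ?_ (Category.comp_id _).symm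
    unfold coneSeq
    rw [Functor.ofSequence_map_homOfLE_succ]
    exact coneι_succ cov π q i

/-- The cone of the colimit is the colimit of the cones. -/
noncomputable def isColimitConeCocone : IsColimit (coneCocone cov π q) := by
  refine HomologicalComplex.isColimitOfEval _ _ fun n => ?_
  have hw : ∀ (s : Cocone (coneSeq cov π q ⋙ HomologicalComplex.eval C (ComplexShape.up ℤ) n)) (i : ℕ),
      (coneNext cov π (stage cov π q i)).f n ≫ s.ι.app (i + 1) = s.ι.app i := fun s i => by
    have h := s.w (homOfLE (Nat.le_succ i))
    simp only [Functor.comp_map, coneSeq, Functor.ofSequence_map_homOfLE_succ] at h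
    exact h
  have hK : IsColimit ((HomologicalComplex.eval C (ComplexShape.up ℤ) (n + 1)).mapCocone
      (colimit.cocone (stageSeq cov π q))) :=
    isColimitOfPreserves _ (colimit.isColimit _)
  let t : Cocone (coneSeq cov π q ⋙ HomologicalComplex.eval C (ComplexShape.up ℤ) n) →
      Cocone (stageSeq cov π q ⋙ HomologicalComplex.eval C (ComplexShape.up ℤ) (n + 1)) := fun s =>
    { pt := s.pt
      ι := NatTrans.ofSequence
        (fun i => (mappingCone.inl (stage cov π q i).2).v (n + 1) n (by omega) ≫ s.ι.app i)
        fun i => by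
          refine Eq.trans ?_ (Category.comp_id _).symm
          simp only [Functor.comp_map, stageSeq, Functor.ofSequence_map_homOfLE_succ]
          refine Eq.trans ?_ (congr_arg ((mappingCone.inl (stage cov π q i).2).v (n + 1) n _ ≫ ·) (hw s i))
          exact ((reassoc_of% (inl_coneNext cov π (stage cov π q i) (n + 1) n (by omega)))
            (s.ι.app (i + 1))).symm }
  have hinr : ∀ (s : Cocone (coneSeq cov π q ⋙ HomologicalComplex.eval C (ComplexShape.up ℤ) n)) (i : ℕ),
      (mappingCone.inr (stage cov π q i).2).f n ≫ s.ι.app i =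
        (mappingCone.inr (stage cov π q 0).2).f n ≫ s.ι.app 0 := fun s i => by
    induction i with
    | zero => rfl
    | succ i ih =>
      rw [← ih, ← hw s i]
      exact ((reassoc_of% (inr_coneNext cov π (stage cov π q i) n)) (s.ι.app (i + 1))).symm
  exact
    { desc := fun s =>
        ((mappingCone.fst (colimMap' cov π q)).1.v n (n + 1) rfl ≫ hK.desc (t s) :
          (mappingCone (colimMap' cov π q)).X n ⟶ s.pt) +
        ((mappingCone.snd (colimMap' cov π q)).v n n (add_zero n) ≫
          (mappingCone.inr (stage cov π q 0).2).f n ≫ s.ι.app 0 :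
          (mappingCone (colimMap' cov π q)).X n ⟶ s.pt)
      fac := fun s i => by
        show (coneι cov π q i).f n ≫ _ = _
        refine mappingCone.ext_from _ (n + 1) n rfl ?_ ?_
        · simp only [coneι, mappingCone.map, mappingCone.inl_v_desc_f_assoc]
          simp
          exact hK.fac (t s) i
        · simp only [coneι, mappingCone.map, mappingCone.inr_f_desc_f_assoc]
          simp
          exact (hinr s i).symm
      uniq := fun s f hf => by
        refine mappingCone.ext_from _ (n + 1) n rfl ?_ ?_
        · simp only [Preadditive.comp_add, mappingCone.inl_v_fst_v_assoc,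
            mappingCone.inl_v_snd_v_assoc, zero_comp, add_zero]
          refine hK.hom_ext fun i => ?_
          refine Eq.trans ?_ (hK.fac (t s) i).symm
          show (stageι cov π q i).f (n + 1) ≫ _ ≫ f =
            (mappingCone.inl (stage cov π q i).2).v (n + 1) n _ ≫ s.ι.app i
          rw [← hf i]
          show _ = _ ≫ (coneι cov π q i).f n ≫ f
          simp [coneι, mappingCone.map]
          rfl
        · simp only [Preadditive.comp_add, mappingCone.inr_f_fst_v_assoc,
            mappingCone.inr_f_snd_v_assoc, zero_comp, zero_add]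
          rw [← hf 0]
          show _ = _ ≫ (coneι cov π q 0).f n ≫ f
          simp [coneι, mappingCone.map] }

variable [HasExactColimitsOfShape ℕ C]

/-- The colimit of the stages is quasi-isomorphic to `G`. -/
theorem quasiIso_colimMap' : QuasiIso (colimMap' cov π q) := by
  refine quasiIso_of_acyclic_cone _ fun n => ?_
  refine exactAt_of_homologyMap_eq_zero (coneSeq cov π q) (coneCocone cov π q)
    (isColimitConeCocone cov π q) n fun i => ?_
  unfold coneSeq
  rw [Functor.ofSequence_map_homOfLE_succ]
  exact homologyMap_coneNext cov π (stage cov π q i) n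

end

end Groth.Agent.KFlat
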