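import Groth.Agent.KFlat.Basic

/-!
# Bounded above complexes of flat objects are K-flat
-/

set_option linter.style.haveILetI false
set_option linter.unusedSectionVars false

universe v₁ v₂ v u₁ u₂ u

open CategoryTheory Limits

namespace Groth.Agent.KFlat

section Brutal

variable {C : Type u₂} [Category.{v₂} C] [Abelian C] (K : CochainComplex C ℤ) (a : ℤ)

/-- The idempotent cutting out the degrees `≥ a`. -/
def cutoff (n : ℤ) : K.X n ⟶ K.X n := if a ≤ n then 𝟙 _ else 0

theorem cutoff_of_le {n : ℤ} (h : a ≤ n) : cutoff K a n = 𝟙 _ := if_pos h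

theorem cutoff_of_lt {n : ℤ} (h : n < a) : cutoff K a n = 0 := if_neg (by omega)

/-- The inclusion of the cut off part. -/
noncomputable abbrev incl (n : ℤ) : Abelian.image (cutoff K a n) ⟶ K.X n :=
  Abelian.image.ι (cutoff K a n)

/-- The projection to the cut off part. -/
noncomputable abbrev proj (n : ℤ) : K.X n ⟶ Abelian.image (cutoff K a n) :=
  Abelian.factorThruImage (cutoff K a n)

theorem proj_incl (n : ℤ) : proj K a n ≫ incl K a n = cutoff K a n := Abelian.image.fac _

theorem incl_proj (n : ℤ) : incl K a n ≫ proj K a n = 𝟙 _ := by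
  rw [← cancel_epi (proj K a n), ← cancel_mono (incl K a n)]
  simp only [Category.assoc, Category.comp_id, proj_incl]
  rw [reassoc_of% (proj_incl K a n)]
  by_cases h : a ≤ n
  · simp [cutoff_of_le K a h]
  · simp [cutoff_of_lt K a (not_le.1 h)]

theorem incl_cutoff (n : ℤ) : incl K a n ≫ cutoff K a n = incl K a n := by
  exact (congr_arg (incl K a n ≫ ·) (proj_incl K a n)).symm.trans
    (by simp only [reassoc_of% (incl_proj K a n)])

theorem incl_eq_zero {n : ℤ} (h : n < a) : incl K a n = 0 :=
  (incl_cutoff K a n).symm.trans ((congr_arg (incl K a n ≫ ·) (cutoff_of_lt K a h)).trans comp_zero)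

theorem incl_d_cutoff (i j : ℤ) : incl K a i ≫ K.d i j ≫ cutoff K a j = incl K a i ≫ K.d i j := by
  by_cases hij : i + 1 = j
  · by_cases h : a ≤ j
    · simp only [cutoff_of_le K a h, Category.comp_id]
    · have h0 : incl K a i = 0 := incl_eq_zero K _ (by omega)
      rw [h0, zero_comp, zero_comp]
  · simp [K.shape i j hij]

/-- The subcomplex of degrees `≥ a`. -/
noncomputable def brutal : CochainComplex C ℤ where
  X n := Abelian.image (cutoff K a n)
  d i j := incl K a i ≫ K.d i j ≫ proj K a j
  shape i j h := by rw [K.shape i j h, zero_comp, comp_zero]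
  d_comp_d' i j k _ _ := by
    simp only [Category.assoc, reassoc_of% (proj_incl K a j), reassoc_of% (incl_d_cutoff K a i j)]
    simp

theorem isIso_incl {n : ℤ} (h : a ≤ n) : IsIso (incl K a n) :=
  ⟨proj K a n, incl_proj K a n, (proj_incl K a n).trans (cutoff_of_le K a h)⟩

theorem isZero_brutal {n : ℤ} (h : n < a) : IsZero ((brutal K a).X n) := by
  rw [IsZero.iff_id_eq_zero]
  show 𝟙 (Abelian.image (cutoff K a n)) = 0
  rw [← incl_proj]
  exact (congr_arg (· ≫ proj K a n) (incl_eq_zero K a h)).trans zero_comp

theorem isZero_brutal_of_isZero {n : ℤ} (h : IsZero (K.X n)) : IsZero ((brutal K a).X n) := by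
  rw [IsZero.iff_id_eq_zero]
  show 𝟙 (Abelian.image (cutoff K a n)) = 0
  rw [← cancel_mono (incl K a n)]
  exact h.eq_of_tgt _ _

/-- The inclusion of the subcomplex of degrees `≥ a`. -/
noncomputable def brutalι : brutal K a ⟶ K where
  f n := incl K a n
  comm' i j _ := by
    show incl K a i ≫ K.d i j = (incl K a i ≫ K.d i j ≫ proj K a j) ≫ incl K a j
    simp only [Category.assoc, proj_incl, incl_d_cutoff]

/-- The inclusions between the brutal truncations. -/
noncomputable def brutalMap {a' : ℤ} (h : a' ≤ a) : brutal K a ⟶ brutal K a' where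
  f n := incl K a n ≫ proj K a' n
  comm' i j _ := by
    show (incl K a i ≫ proj K a' i) ≫ incl K a' i ≫ K.d i j ≫ proj K a' j =
      (incl K a i ≫ K.d i j ≫ proj K a j) ≫ incl K a j ≫ proj K a' j
    have e : ∀ n, incl K a n ≫ cutoff K a' n = incl K a n := fun n => by
      by_cases hn : a' ≤ n
      · simp only [cutoff_of_le K a' hn, Category.comp_id]
      · have h0 : incl K a n = 0 := incl_eq_zero K _ (by omega)
        rw [h0, zero_comp]
    simp only [Category.assoc, reassoc_of% (proj_incl K a' i), reassoc_of% (e i),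
      reassoc_of% (proj_incl K a j), reassoc_of% (incl_d_cutoff K a i j)]

theorem brutalMap_ι {a' : ℤ} (h : a' ≤ a) : brutalMap K a h ≫ brutalι K a' = brutalι K a := by
  ext n
  show (incl K a n ≫ proj K a' n) ≫ incl K a' n = incl K a n
  rw [Category.assoc, proj_incl]
  by_cases hn : a' ≤ n
  · simp only [cutoff_of_le K a' hn, Category.comp_id]
  · have h0 : incl K a n = 0 := incl_eq_zero K _ (by omega)
    rw [h0, zero_comp]

/-- The projection to the bottom degree. -/
noncomputable def brutalToSingle :
    brutal K a ⟶ (HomologicalComplex.single C (ComplexShape.up ℤ) a).obj (K.X a) :=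
  HomologicalComplex.mkHomToSingle (incl K a a) fun i hi =>
    (isZero_brutal K a (show i < a by have h : i + 1 = a := hi; omega)).eq_of_src _ _

/-- The short complex of two consecutive truncations. -/
noncomputable def brutalShortComplex : ShortComplex (CochainComplex C ℤ) :=
  ShortComplex.mk (brutalMap K (a + 1) (show a ≤ a + 1 by omega)) (brutalToSingle K a) (by
    refine HomologicalComplex.hom_ext _ _ fun n => ?_
    by_cases hn : n = a
    · subst hn
      exact (isZero_brutal K (n + 1) (by omega)).eq_of_src _ _
    · exact (HomologicalComplex.isZero_single_obj_X _ _ _ _ hn).eq_of_tgt _ _)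

/-- The degreewise splitting. -/
noncomputable def brutalSplitting (n : ℤ) :
    ((brutalShortComplex K a).map (HomologicalComplex.eval C (ComplexShape.up ℤ) n)).Splitting :=
  if hn : n = a then by
    subst hn
    haveI := isIso_incl K n (le_refl n)
    haveI : IsIso (incl K n n ≫
        (HomologicalComplex.singleObjXSelf (ComplexShape.up ℤ) n (K.X n)).inv) := inferInstance
    haveI : IsIso ((brutalToSingle K n).f n) := by
      have h : (brutalToSingle K n).f n = incl K n n ≫
          (HomologicalComplex.singleObjXSelf (ComplexShape.up ℤ) n (K.X n)).inv :=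
        HomologicalComplex.mkHomToSingle_f _ _
      exact h ▸ this
    let σ := inv ((brutalToSingle K n).f n)
    exact
      { r := 0
        s := σ
        f_r := (isZero_brutal K (n + 1) (by omega)).eq_of_src _ _
        s_g := IsIso.inv_hom_id ((brutalToSingle K n).f n)
        id := by
          refine Eq.trans ?_ (IsIso.hom_inv_id ((brutalToSingle K n).f n))
          rw [zero_comp, zero_add]
          rfl }
  else
    have hz := HomologicalComplex.isZero_single_obj_X (ComplexShape.up ℤ) a (K.X a) n hn
    { r := incl K a n ≫ proj K (a + 1) n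
      s := 0
      f_r := by
        show (incl K (a + 1) n ≫ proj K a n) ≫ incl K a n ≫ proj K (a + 1) n =
          𝟙 (Abelian.image (cutoff K (a + 1) n))
        rcases lt_or_gt_of_ne hn with h | h
        · exact (isZero_brutal K (a + 1) (by omega)).eq_of_src _ _
        · rw [Category.assoc, reassoc_of% (proj_incl K a n), cutoff_of_le K a (by omega),
            Category.id_comp, incl_proj]
      s_g := hz.eq_of_src _ _
      id := by
        rcases lt_or_gt_of_ne hn with h | h
        · exact (isZero_brutal K a h).eq_of_src _ _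
        · have key : (incl K a n ≫ proj K (a + 1) n) ≫ (incl K (a + 1) n ≫ proj K a n) = 𝟙 _ := by
            rw [Category.assoc, reassoc_of% (proj_incl K (a + 1) n)]
            simp only [cutoff_of_le K (a + 1) (show a + 1 ≤ n by omega), Category.id_comp, incl_proj]
          refine Eq.trans ?_ key
          rw [comp_zero, add_zero]
          rfl }

/-- The truncations below a given degree, as a diagram. -/
noncomputable def brutalSeq (b : ℤ) : ℕ ⥤ CochainComplex C ℤ where
  obj m := brutal K (b - m)
  map {m m'} h := brutalMap K (b - m) (show b - (m' : ℤ) ≤ b - m by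
    have := leOfHom h
    omega)
  map_id m := by
    ext n
    exact incl_proj K (b - m) n
  map_comp {m m' m''} h h' := by
    ext n
    show incl K (b - m) n ≫ proj K (b - m'') n =
      (incl K (b - m) n ≫ proj K (b - m') n) ≫ incl K (b - m') n ≫ proj K (b - m'') n
    rw [Category.assoc, reassoc_of% (proj_incl K (b - m') n)]
    by_cases hn : b - (m' : ℤ) ≤ n
    · simp only [cutoff_of_le K _ hn, Category.id_comp]
    · have := leOfHom h
      have h0 : incl K (b - m) n = 0 := incl_eq_zero K _ (by omega)
      rw [h0, zero_comp, zero_comp]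

/-- The truncations converge to the complex. -/
noncomputable def brutalCocone (b : ℤ) : Cocone (brutalSeq K b) where
  pt := K
  ι :=
    { app := fun m => brutalι K (b - m)
      naturality := fun m m' h => (brutalMap_ι K (b - m) (show b - (m' : ℤ) ≤ b - m by
        have := leOfHom h
        omega)).trans (Category.comp_id _).symm }

/-- The cocone of the truncations is colimit. -/
noncomputable def isColimitBrutalCocone (b : ℤ) : IsColimit (brutalCocone K b) :=
  HomologicalComplex.isColimitOfEval _ _ fun n =>
    { desc := fun s => proj K (b - ((b - n).toNat : ℤ)) n ≫ s.ι.app (b - n).toNat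
      fac := fun s m => by
        show incl K (b - m) n ≫ proj K (b - ((b - n).toNat : ℤ)) n ≫ s.ι.app (b - n).toNat = s.ι.app m
        rcases le_total m (b - n).toNat with h | h
        · rw [← Category.assoc]
          exact s.w (homOfLE h)
        · rw [← s.w (homOfLE h)]
          show incl K (b - m) n ≫ proj K (b - ((b - n).toNat : ℤ)) n ≫
            (incl K (b - ((b - n).toNat : ℤ)) n ≫ proj K (b - m) n) ≫ s.ι.app m = s.ι.app m
          rw [Category.assoc, reassoc_of% (proj_incl K (b - ((b - n).toNat : ℤ)) n)]
          simp only [cutoff_of_le K (b - ((b - n).toNat : ℤ)) (show b - ((b - n).toNat : ℤ) ≤ n by omega),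
            Category.id_comp, reassoc_of% (incl_proj K (b - m) n)]
      uniq := fun s f hf => by
        rw [← hf (b - n).toNat]
        show f = proj K (b - ((b - n).toNat : ℤ)) n ≫ incl K (b - ((b - n).toNat : ℤ)) n ≫ f
        rw [reassoc_of% (proj_incl K (b - ((b - n).toNat : ℤ)) n)]
        simp only [cutoff_of_le K (b - ((b - n).toNat : ℤ)) (show b - ((b - n).toNat : ℤ) ≤ n by omega)]
        exact (Category.id_comp _).symm }

end Brutal

variable {C₁ : Type u₁} [Category.{v₁} C₁] {C₂ : Type u₂} [Category.{v₂} C₂]
  {D : Type u} [Category.{v} D] [Abelian C₁] [Abelian C₂] [Abelian D]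
  (F : C₁ ⥤ C₂ ⥤ D) [F.Additive] [∀ X, (F.obj X).Additive]
  [∀ (K₁ : CochainComplex C₁ ℤ) (K₂ : CochainComplex C₂ ℤ), CochainComplex.HasMapBifunctor K₁ K₂ F]
  [∀ n : ℤ, HasColimitsOfShape (Discrete (Idx n)) D]
  [∀ n : ℤ, HasExactColimitsOfShape (Discrete (Idx n)) D]

theorem isKFlatFor_brutal (K : CochainComplex C₂ ℤ) (b : ℤ) (hb : ∀ n, b < n → IsZero (K.X n))
    (hK : ∀ n, GoodObj F (K.X n)) (m : ℕ) : IsKFlatFor F (brutal K (b + 1 - m)) := by
  induction m with
  | zero =>
    refine isZero_tot F ((IsZero.iff_id_eq_zero _).2 ?_)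
    ext n
    by_cases hn : n < b + 1 - ((0 : ℕ) : ℤ)
    · exact (isZero_brutal K _ hn).eq_of_src _ _
    · exact (isZero_brutal_of_isZero K _ (hb n (by simp at hn; omega))).eq_of_src _ _
  | succ m ih =>
    obtain ⟨-, h, -⟩ := twoOfThree F (brutalShortComplex K (b + 1 - (m + 1 : ℕ))) fun L =>
      shortExact_tot_of_splitting F L _ (brutalSplitting K _)
    refine h ?_ (isKFlatFor_single F _ _ (hK _))
    show IsKFlatFor F (brutal K (b + 1 - ((m + 1 : ℕ) : ℤ) + 1))
    rw [show b + 1 - ((m + 1 : ℕ) : ℤ) + 1 = b + 1 - (m : ℤ) by push_cast; ring]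
    exact ih

/-- A bounded above complex of flat objects is K-flat. -/
theorem isKFlatFor_of_bddAbove [HasColimitsOfShape ℕ C₂] [HasColimitsOfShape ℕ D]
    [HasExactColimitsOfShape ℕ D] [∀ X, PreservesColimitsOfShape ℕ (F.obj X)]
    (K : CochainComplex C₂ ℤ) (b : ℤ) (hb : ∀ n, b < n → IsZero (K.X n))
    (hK : ∀ n, GoodObj F (K.X n)) : IsKFlatFor F K :=
  isKFlatFor_of_isColimit F (brutalSeq K (b + 1)) _ (isColimitBrutalCocone K (b + 1))
    fun m => isKFlatFor_brutal F K b hb hK m

section ZeroDiff

variable (P : ℤ → C₂)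

/-- The complex with zero differentials. -/
@[simps]
def zeroDiff : CochainComplex C₂ ℤ where
  X := P
  d _ _ := 0

/-- A complex of flat objects with zero differential is K-flat. -/
theorem isKFlatFor_zeroDiff [HasColimitsOfShape (Discrete ℤ) C₂] [HasColimitsOfShape (Discrete ℤ) D]
    [HasExactColimitsOfShape (Discrete ℤ) D] [∀ X, PreservesColimitsOfShape (Discrete ℤ) (F.obj X)]
    (hP : ∀ n, GoodObj F (P n)) : IsKFlatFor F (zeroDiff P) := by
  let K : Discrete ℤ ⥤ CochainComplex C₂ ℤ :=
    Discrete.functor fun q => (HomologicalComplex.single C₂ (ComplexShape.up ℤ) q).obj (P q)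
  let c : Cocone K := Cofan.mk (zeroDiff P) fun q =>
    HomologicalComplex.mkHomFromSingle (𝟙 (P q)) (fun _ _ => comp_zero)
  refine isKFlatFor_of_isColimit F K c (HomologicalComplex.isColimitOfEval _ _ fun n => ?_)
    fun q => isKFlatFor_single F q.as (P q.as) (hP q.as)
  have hc : (c.ι.app ⟨n⟩).f n =
      (HomologicalComplex.singleObjXSelf (ComplexShape.up ℤ) n (P n)).hom :=
    (HomologicalComplex.mkHomFromSingle_f (K := zeroDiff P) (𝟙 (P n)) (fun _ _ => comp_zero)).trans
      (Category.comp_id _)
  exact
    { desc := fun s =>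
        (HomologicalComplex.singleObjXSelf (ComplexShape.up ℤ) n (P n)).inv ≫ s.ι.app ⟨n⟩
      fac := fun s q => by
        obtain ⟨q⟩ := q
        by_cases hq : n = q
        · subst hq
          show (c.ι.app ⟨n⟩).f n ≫ _ = _
          rw [hc]
          exact Iso.hom_inv_id_assoc _ _
        · exact IsZero.eq_of_src (X := (K.obj ⟨q⟩).X n)
            (HomologicalComplex.isZero_single_obj_X (ComplexShape.up ℤ) q (P q) n hq) _ _
      uniq := fun s f hf => by
        rw [← hf ⟨n⟩]
        show f = _ ≫ (c.ι.app ⟨n⟩).f n ≫ f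
        rw [hc]
        exact (Iso.inv_hom_id_assoc _ _).symm }

end ZeroDiff

end Groth.Agent.KFlat
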