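import Groth.Agent.KFlat.BddAbove
import Groth.Agent.ModTensor.Flat
import Groth.Prelude.Def_KFlatSite

/-!
# K-flat complexes of sheaves of modules
-/

set_option linter.style.haveILetI false
set_option linter.unusedSectionVars false

universe u

open CategoryTheory Limits

namespace Groth.Agent.KFlat

variable {C : Type u} [SmallCategory C] {J : GrothendieckTopology C} (O : Sheaf J CommRingCat.{u})

theorem isKFlat_iff (K : CochainComplex (ModSite.Mod O) ℤ) :
    ModSite.IsKFlat K ↔ IsKFlatFor (ModSite.tensorBi O) K :=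
  (isKFlatFor_iff_isZero_homology (ModSite.tensorBi O) K).symm

instance ab4OfSize_mod : AB4OfSize.{0} (ModSite.Mod O) := by
  haveI : HasFiniteBiproducts (ModSite.Mod O) := Abelian.hasFiniteBiproducts
  haveI : AB4OfSize.{u} (ModSite.Mod O) := AB4.of_AB5 _
  exact AB4OfSize_shrink.{0, u} _

instance hasColimitsOfShape_nat : HasColimitsOfShape ℕ (ModSite.Mod O) := by
  haveI : HasColimitsOfSize.{0, 0} (ModSite.Mod O) := hasColimitsOfSizeShrink.{0, 0, u, u} _
  infer_instance

instance hasExactColimitsOfShape_nat : HasExactColimitsOfShape ℕ (ModSite.Mod O) := by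
  haveI : HasFilteredColimitsOfSize.{0, 0} (ModSite.Mod O) :=
    hasFilteredColimitsOfSize_of_univLE.{0, 0, u, u}
  haveI : AB5OfSize.{0, 0} (ModSite.Mod O) := AB5OfSize_of_univLE.{0, 0, u, u} _
  infer_instance

instance preservesColimitsOfSize_zero_tensorBi_obj (X : ModSite.Mod O) :
    PreservesColimitsOfSize.{0, 0} ((ModSite.tensorBi O).obj X) :=
  preservesColimitsOfSize_shrink.{0, u, 0, u} _

/-- Flat modules are good for the tensor product. -/
theorem goodObj_of_isFlat {M : ModSite.Mod O} (hM : ModSite.IsFlat M) :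
    GoodObj (ModSite.tensorBi O) M := fun S hS => by
  haveI := hM.1
  haveI := hM.2
  haveI : ((ModSite.tensorBi O).flip.obj M).Additive := Groth.Agent.ModTensor.additive_tensorBi_flip O M
  haveI : ((ModSite.tensorBi O).flip.obj M).PreservesHomology := inferInstance
  exact hS.map ((ModSite.tensorBi O).flip.obj M)

theorem isKFlat_of_bddAbove (K : CochainComplex (ModSite.Mod O) ℤ) (b : ℤ)
    (hb : ∀ n, b < n → IsZero (K.X n)) (hK : ∀ n, ModSite.IsFlat (K.X n)) : ModSite.IsKFlat K :=
  (isKFlat_iff O K).2 (isKFlatFor_of_bddAbove _ K b hb fun n => goodObj_of_isFlat O (hK n))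

theorem isKFlat_of_isColimit {I : Type} [SmallCategory I] [HasExactColimitsOfShape I (ModSite.Mod O)]
    [HasColimitsOfShape I (ModSite.Mod O)]
    (K : I ⥤ CochainComplex (ModSite.Mod O) ℤ) (c : Cocone K) (hc : IsColimit c)
    (h : ∀ i, ModSite.IsKFlat (K.obj i)) : ModSite.IsKFlat c.pt :=
  (isKFlat_iff O _).2 (isKFlatFor_of_isColimit (ModSite.tensorBi O) K c hc
    fun i => (isKFlat_iff O _).1 (h i))

theorem twoOfThree_cone {K₁ K₂ : CochainComplex (ModSite.Mod O) ℤ} (φ : K₁ ⟶ K₂) :
    (ModSite.IsKFlat K₁ → ModSite.IsKFlat K₂ → ModSite.IsKFlat (CochainComplex.mappingCone φ)) ∧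
    (ModSite.IsKFlat K₁ → ModSite.IsKFlat (CochainComplex.mappingCone φ) → ModSite.IsKFlat K₂) ∧
    (ModSite.IsKFlat K₂ → ModSite.IsKFlat (CochainComplex.mappingCone φ) → ModSite.IsKFlat K₁) := by
  simp only [isKFlat_iff]
  exact twoOfThree_mappingCone (ModSite.tensorBi O) φ

theorem twoOfThree_of_isFlat (S : ShortComplex (CochainComplex (ModSite.Mod O) ℤ)) (hS : S.ShortExact)
    (h₃ : ∀ n, ModSite.IsFlat (S.X₃.X n)) :
    (ModSite.IsKFlat S.X₁ → ModSite.IsKFlat S.X₂ → ModSite.IsKFlat S.X₃) ∧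
    (ModSite.IsKFlat S.X₁ → ModSite.IsKFlat S.X₃ → ModSite.IsKFlat S.X₂) ∧
    (ModSite.IsKFlat S.X₂ → ModSite.IsKFlat S.X₃ → ModSite.IsKFlat S.X₁) := by
  simp only [isKFlat_iff]
  refine twoOfThree (ModSite.tensorBi O) S fun L =>
    shortExact_tot (ModSite.tensorBi O) L S fun p q => ?_
  have hq := hS.map_of_exact (HomologicalComplex.eval (ModSite.Mod O) (ComplexShape.up ℤ) q)
  haveI hmono : Mono (((ModSite.tensorBi O).obj (L.X p)).map
      (S.map (HomologicalComplex.eval (ModSite.Mod O) (ComplexShape.up ℤ) q)).f) :=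
    Groth.Agent.ModTensor.mono_tensor_obj_of_isFlat_X₃ O _ hq (h₃ q) (L.X p)
  haveI : PreservesFiniteColimits ((ModSite.tensorBi O).obj (L.X p)) := by
    haveI := Groth.Agent.ModTensor.preservesFiniteColimits_tensorBi_flip O (L.X p)
    exact preservesFiniteColimits_of_natIso (Groth.Agent.ModTensor.tensorSymm O (L.X p))
  haveI := hq.epi_g
  exact
    { exact := hq.exact.map_of_epi_of_preservesCokernel _ hq.epi_g inferInstance
      mono_f := hmono
      epi_g := (inferInstance : Epi (((ModSite.tensorBi O).obj (L.X p)).map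
        (S.map (HomologicalComplex.eval (ModSite.Mod O) (ComplexShape.up ℤ) q)).g)) }

theorem isKFlat_single (q : ℤ) {M : ModSite.Mod O} (hM : ModSite.IsFlat M) :
    ModSite.IsKFlat ((HomologicalComplex.single _ (ComplexShape.up ℤ) q).obj M) :=
  (isKFlat_iff O _).2 (isKFlatFor_single _ q M (goodObj_of_isFlat O hM))

theorem isKFlat_zeroDiff (P : ℤ → ModSite.Mod O) (hP : ∀ n, ModSite.IsFlat (P n)) :
    ModSite.IsKFlat (zeroDiff P) :=
  (isKFlat_iff O _).2 (isKFlatFor_zeroDiff _ P fun n => goodObj_of_isFlat O (hP n))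

end Groth.Agent.KFlat
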