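import Groth.Agent.KFlat.MapTot
import Groth.Agent.KFlat.ModSite
import Groth.Agent.SiteBase.Projection

/-!
# Restrictions of K-flat complexes
-/

set_option linter.style.haveILetI false
set_option linter.unusedSectionVars false

universe u

open CategoryTheory Limits Opposite

noncomputable section

namespace Groth.Agent.KFlat

open Groth.Agent.ModTensor Groth.Agent.SiteBase.ExtZeroPre

variable {C : Type u} [SmallCategory C] {J : GrothendieckTopology C} (O : Sheaf J CommRingCat.{u}) (U : C)

/-- Tensoring on the localised site with a restricted module. -/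
abbrev biRestr : ModSite.Mod (O.over U) ⥤ ModSite.Mod O ⥤ ModSite.Mod (O.over U) :=
  ModSite.tensorBi (O.over U) ⋙ (Functor.whiskeringLeft _ _ _).obj (ModSite.restr O U)

/-- Tensoring on the whole site with an extended module. -/
abbrev biExtZero : ModSite.Mod (O.over U) ⥤ ModSite.Mod O ⥤ ModSite.Mod O :=
  ModSite.extZero O U ⋙ ModSite.tensorBi O

instance additive_biRestr : (biRestr O U).Additive := inferInstance

instance additive_biRestr_obj (P : ModSite.Mod (O.over U)) : ((biRestr O U).obj P).Additive :=
  inferInstanceAs (ModSite.restr O U ⋙ (ModSite.tensorBi (O.over U)).obj P).Additive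

instance additive_biExtZero : (biExtZero O U).Additive := inferInstance

instance additive_biExtZero_obj (P : ModSite.Mod (O.over U)) : ((biExtZero O U).obj P).Additive :=
  inferInstanceAs ((ModSite.tensorBi O).obj ((ModSite.extZero O U).obj P)).Additive

/-- The projection formula as an isomorphism of bifunctors. -/
def projBiIso : biRestr O U ⋙ (Functor.whiskeringRight _ _ _).obj (ModSite.extZero O U) ≅
    biExtZero O U :=
  NatIso.ofComponents (fun P => projFunIsoRight O U P) fun {P P'} f => by
    ext N : 2
    exact (projFunIsoLeft O U N).hom.naturality f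

theorem isZero_of_isZero_extZero {P : ModSite.Mod (O.over U)}
    (h : IsZero ((ModSite.extZero O U).obj P)) : IsZero P := by
  let G := (preU O U).obj P
  have hG : IsZero ((shF O).obj ((jC O.obj U).obj G)) :=
    IsZero.of_iso h ((extZeroIso O U).app P).symm
  have h2 : IsZero ((shU O U).obj ((resC O.obj U).obj ((jC O.obj U).obj G))) :=
    IsZero.of_iso ((ModSite.restr O U).map_isZero hG) ((restrShIso O U).app ((jC O.obj U).obj G))
  haveI hm : Mono ((jAdjC O.obj U).unit.app G) := by
    refine PresheafOfModules.mono_of_injective fun {X} => ?_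
    induction X with
    | op Y =>
      intro a b hab
      have key : (jAdjC O.obj U).unit.app G =
          unit (R := O.obj ⋙ forget₂ CommRingCat.{u} RingCat.{u}) G := by
        refine ((jAdjC O.obj U).homEquiv_id G).symm.trans ?_
        show unit (R := O.obj ⋙ forget₂ CommRingCat.{u} RingCat.{u}) G ≫
          (PresheafOfModules.pushforward₀ (Over.forget U) _).map (𝟙 _) = _
        rw [CategoryTheory.Functor.map_id, Category.comp_id]
      rw [key] at hab
      classical
      exact DirectSum.of_injective
        (β := fun ψ : Y.left ⟶ U => fib (R := O.obj ⋙ forget₂ CommRingCat.{u} RingCat.{u}) G Y.left ψ)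
        Y.hom hab
  haveI : PreservesFiniteLimits (shU O U) :=
    inferInstanceAs (PreservesFiniteLimits
      (PresheafOfModules.sheafification.{u} (𝟙 (ModSite.ringSh (O.over U)).obj)))
  haveI : Mono ((shU O U).map ((jAdjC O.obj U).unit.app G)) := inferInstance
  exact IsZero.of_iso (IsZero.of_mono ((shU O U).map ((jAdjC O.obj U).unit.app G)) h2)
    (sheafifyPreIso (O.over U) P).symm

/-- The restriction of a K-flat complex is K-flat. -/
theorem isKFlat_restr {K : CochainComplex (ModSite.Mod O) ℤ} (hK : ModSite.IsKFlat K) :
    ModSite.IsKFlat (((ModSite.restr O U).mapHomologicalComplex (ComplexShape.up ℤ)).obj K) := by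
  refine (isKFlat_iff (O.over U) _).2 fun L hL n => ?_
  haveI : PreservesColimitsOfSize.{u, u} (ModSite.extZero O U) :=
    (ModSite.extZeroAdj O U).leftAdjoint_preservesColimits
  haveI : PreservesColimitsOfSize.{0, 0} (ModSite.extZero O U) :=
    preservesColimitsOfSize_shrink.{0, u, 0, u} _
  let Lx := ((ModSite.extZero O U).mapHomologicalComplex (ComplexShape.up ℤ)).obj L
  have hLx : Lx.Acyclic := fun i => by
    rw [HomologicalComplex.exactAt_iff]
    exact ((L.exactAt_iff i).1 (hL i)).map (ModSite.extZero O U)
  have h1 := ((isKFlat_iff O K).1 hK Lx hLx n).of_iso (mapTotIso (projBiIso O U) L K).symm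
  rw [HomologicalComplex.exactAt_iff_isZero_homology] at h1 ⊢
  refine isZero_of_isZero_extZero O U (IsZero.of_iso h1 ?_)
  exact ((((tot (ModSite.tensorBi (O.over U)) L).obj
    (((ModSite.restr O U).mapHomologicalComplex (ComplexShape.up ℤ)).obj K)).sc n).mapHomologyIso
      (ModSite.extZero O U)).symm

end Groth.Agent.KFlat
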