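import Groth.Agent.KFlat.Exact

/-!
# Exactness and colimits for the total complex of a bifunctor
-/

set_option linter.style.haveILetI false
set_option linter.unusedSectionVars false

universe v₁ v₂ v u₁ u₂ u v' u'

open CategoryTheory Limits

namespace Groth.Agent.KFlat

variable {C₁ : Type u₁} [Category.{v₁} C₁] {C₂ : Type u₂} [Category.{v₂} C₂]
  {D : Type u} [Category.{v} D] [Abelian C₁] [Abelian C₂] [Abelian D]
  (F : C₁ ⥤ C₂ ⥤ D) [F.Additive] [∀ X, (F.obj X).Additive]
  [∀ (K₁ : CochainComplex C₁ ℤ) (K₂ : CochainComplex C₂ ℤ), CochainComplex.HasMapBifunctor K₁ K₂ F]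

/-- The index set of the summands in degree `n`. -/
abbrev Idx (n : ℤ) : Type :=
  ↥((ComplexShape.π (ComplexShape.up ℤ) (ComplexShape.up ℤ) (ComplexShape.up ℤ)) ⁻¹' {n})

/-- `Tot(L ⊗ -)` as a functor. -/
noncomputable abbrev tot (L : CochainComplex C₁ ℤ) : CochainComplex C₂ ℤ ⥤ CochainComplex D ℤ :=
  F.map₂CochainComplex.obj L

instance additive_tot (L : CochainComplex C₁ ℤ) : (tot F L).Additive := ⟨fun {K K' f g} => by
  ext n : 1
  refine HomologicalComplex.mapBifunctor.hom_ext fun p q h => ?_
  show _ = _ ≫ ((HomologicalComplex.mapBifunctorMap (𝟙 L) f F (ComplexShape.up ℤ)).f n +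
    (HomologicalComplex.mapBifunctorMap (𝟙 L) g F (ComplexShape.up ℤ)).f n)
  rw [Preadditive.comp_add]
  refine (HomologicalComplex.ι_mapBifunctorMap (𝟙 L) (f + g) F (ComplexShape.up ℤ) p q n h).trans ?_
  simp only [HomologicalComplex.ι_mapBifunctorMap,
    HomologicalComplex.add_f_apply, Functor.map_add, Preadditive.add_comp, Preadditive.comp_add]⟩

/-- The family of summands in degree `n`. -/
noncomputable def fam (L : CochainComplex C₁ ℤ) (n : ℤ) :
    CochainComplex C₂ ℤ ⥤ Discrete (Idx n) ⥤ D where
  obj K := Discrete.functor fun i : Idx n => (F.obj (L.X i.1.1)).obj (K.X i.1.2)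
  map f := Discrete.natTrans fun i => (F.obj (L.X i.as.1.1)).map (f.f i.as.1.2)
  map_id K := by
    ext i
    exact (F.obj (L.X i.as.1.1)).map_id _
  map_comp f g := by
    ext i
    exact (F.obj (L.X i.as.1.1)).map_comp _ _

variable [∀ n : ℤ, HasColimitsOfShape (Discrete (Idx n)) D]

/-- The degree `n` part of the total complex is the coproduct of the family of summands. -/
noncomputable def totEvalIso (L : CochainComplex C₁ ℤ) (n : ℤ) :
    tot F L ⋙ HomologicalComplex.eval D (ComplexShape.up ℤ) n ≅ fam F L n ⋙ colim :=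
  NatIso.ofComponents (fun K => Iso.refl _) fun {K K'} f => by
    refine (Category.comp_id _).trans (Eq.trans ?_ (Category.id_comp _).symm)
    refine colimit.hom_ext fun i => ?_
    obtain ⟨⟨⟨p, q⟩, hpq⟩⟩ := i
    refine (HomologicalComplex.ι_mapBifunctorMap (𝟙 L) f F (ComplexShape.up ℤ) p q n hpq).trans ?_
    rw [HomologicalComplex.id_f, F.map_id, NatTrans.id_app, Category.id_comp]
    exact (colimit.ι_map ((fam F L n).map f) ⟨⟨(p, q), hpq⟩⟩).symm

variable [∀ n : ℤ, HasExactColimitsOfShape (Discrete (Idx n)) D]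

/-- If the summands form short exact sequences, so do the total complexes. -/
theorem shortExact_tot (L : CochainComplex C₁ ℤ) (S : ShortComplex (CochainComplex C₂ ℤ))
    (h : ∀ p q, ((S.map (HomologicalComplex.eval C₂ (ComplexShape.up ℤ) q)).map
      (F.obj (L.X p))).ShortExact) :
    (S.map (tot F L)).ShortExact := by
  refine HomologicalComplex.shortExact_of_degreewise_shortExact _ fun n => ?_
  haveI : (fam F L n).Additive := ⟨fun {X Y f g} => by
    ext i
    exact (F.obj (L.X i.as.1.1)).map_add⟩
  haveI : ((fam F L n) ⋙ colim).PreservesZeroMorphisms := inferInstance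
  refine ShortComplex.shortExact_of_iso ?_
    (shortExact_colim (S.map (fam F L n)) fun i => h i.as.1.1 i.as.1.2)
  exact ShortComplex.isoMk ((totEvalIso F L n).app S.X₁).symm ((totEvalIso F L n).app S.X₂).symm
    ((totEvalIso F L n).app S.X₃).symm ((totEvalIso F L n).inv.naturality S.f).symm
    ((totEvalIso F L n).inv.naturality S.g).symm

/-- A degreewise split short exact sequence stays short exact. -/
theorem shortExact_tot_of_splitting (L : CochainComplex C₁ ℤ) (S : ShortComplex (CochainComplex C₂ ℤ))
    (σ : ∀ q, (S.map (HomologicalComplex.eval C₂ (ComplexShape.up ℤ) q)).Splitting) :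
    (S.map (tot F L)).ShortExact :=
  shortExact_tot F L S fun p q => ((σ q).map (F.obj (L.X p))).shortExact

/-- The total complex commutes with colimits commuting with the summands. -/
theorem preservesColimitsOfShape_tot (L : CochainComplex C₁ ℤ) (I : Type u') [Category.{v'} I]
    [HasColimitsOfShape I C₂] [HasColimitsOfShape I D] [∀ X, PreservesColimitsOfShape I (F.obj X)] :
    PreservesColimitsOfShape I (tot F L) := by
  refine HomologicalComplex.preservesColimitsOfShape_of_eval _ fun n => ?_
  haveI : PreservesColimitsOfShape I (fam F L n) := ⟨fun {K} => ⟨fun {s} hs =>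
    ⟨evaluationJointlyReflectsColimits _ fun i =>
      isColimitOfPreserves (F.obj (L.X i.as.1.1))
        (isColimitOfPreserves (HomologicalComplex.eval C₂ (ComplexShape.up ℤ) i.as.1.2) hs)⟩⟩⟩
  haveI : PreservesColimitsOfShape I (colim : (Discrete (Idx n) ⥤ D) ⥤ D) :=
    ⟨fun {K} => (colimConstAdj (J := Discrete (Idx n)) (C := D)).leftAdjoint_preservesColimits
      |>.preservesColimitsOfShape.preservesColimit⟩
  exact preservesColimitsOfShape_of_natIso (totEvalIso F L n).symm

end Groth.Agent.KFlat
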