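import Groth.Agent.KFlat.Bifunctor

/-!
# K-flat complexes for a bifunctor
-/

set_option linter.style.haveILetI false
set_option linter.unusedSectionVars false

universe v₁ v₂ v u₁ u₂ u v' u'

open CategoryTheory Limits

namespace Groth.Agent.KFlat

variable {C₁ : Type u₁} [Category.{v₁} C₁] {C₂ : Type u₂} [Category.{v₂} C₂]
  {D : Type u} [Category.{v} D] [Abelian C₁] [Abelian C₂] [Abelian D]
  (F : C₁ ⥤ C₂ ⥤ D) [F.Additive] [∀ X, (F.obj X).Additive]
  [∀ (K₁ : CochainComplex C₁ ℤ) (K₂ : CochainComplex C₂ ℤ), CochainComplex.HasMapBifunctor K₁ K₂ F]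

/-- `K` is K-flat for `F`: tensoring an acyclic complex with it gives an acyclic complex. -/
def IsKFlatFor (K : CochainComplex C₂ ℤ) : Prop :=
  ∀ L : CochainComplex C₁ ℤ, L.Acyclic → ((tot F L).obj K).Acyclic

instance preservesZeroMorphisms_flip (M : C₂) : (F.flip.obj M).PreservesZeroMorphisms :=
  ⟨fun X Y => show (F.map (0 : X ⟶ Y)).app M = 0 by rw [F.map_zero, zero_app]⟩

/-- An object is good (flat) if tensoring with it preserves exactness. -/
def GoodObj (M : C₂) : Prop :=
  ∀ S : ShortComplex C₁, S.Exact → (S.map (F.flip.obj M)).Exact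

theorem goodObj_of_iso {M M' : C₂} (e : M ≅ M') (h : GoodObj F M) : GoodObj F M' := fun S hS =>
  ShortComplex.exact_of_iso (S.mapNatIso (F.flip.mapIso e)) (h S hS)

theorem goodObj_of_isZero {M : C₂} (hM : IsZero M) : GoodObj F M := fun S _ =>
  ShortComplex.exact_of_isZero_X₂ _ ((F.obj S.X₂).map_isZero hM)

theorem isKFlatFor_of_iso {K K' : CochainComplex C₂ ℤ} (e : K ≅ K') (h : IsKFlatFor F K) :
    IsKFlatFor F K' := fun L hL i => (h L hL i).of_iso ((tot F L).mapIso e)

theorem isKFlatFor_iff_isZero_homology (K : CochainComplex C₂ ℤ) :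
    IsKFlatFor F K ↔ ∀ L : CochainComplex C₁ ℤ, (∀ i : ℤ, IsZero (L.homology i)) →
      ∀ i : ℤ, IsZero (((tot F L).obj K).homology i) :=
  ⟨fun h L hL i => (h L (fun j => (L.exactAt_iff_isZero_homology j).2 (hL j)) i).isZero_homology,
    fun h L hL i => (HomologicalComplex.exactAt_iff_isZero_homology _ i).2
      (h L (fun j => (hL j).isZero_homology) i)⟩

theorem isZero_tot {K : CochainComplex C₂ ℤ} (hK : IsZero K) : IsKFlatFor F K := fun L _ i => by
  rw [HomologicalComplex.exactAt_iff_isZero_homology]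
  exact (HomologicalComplex.homologyFunctor D _ i).map_isZero ((tot F L).map_isZero hK)

/-- K-flatness is stable under shift. -/
theorem isKFlatFor_shift {K : CochainComplex C₂ ℤ} (h : IsKFlatFor F K) (n : ℤ) :
    IsKFlatFor F (K⟦n⟧) := fun L hL i => by
  rw [HomologicalComplex.exactAt_iff_isZero_homology]
  refine IsZero.of_iso ?_ ((HomologicalComplex.homologyFunctor D (ComplexShape.up ℤ) i).mapIso
    (CochainComplex.mapBifunctorShift₂Iso L K F n))
  exact (h L hL (n + i)).isZero_homology.of_iso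
    (((HomologicalComplex.homologyFunctor D (ComplexShape.up ℤ) 0).shiftIso n i (n + i) rfl).app
      (CochainComplex.mapBifunctor L K F))

theorem isKFlatFor_of_shift {K : CochainComplex C₂ ℤ} (n : ℤ) (h : IsKFlatFor F (K⟦n⟧)) :
    IsKFlatFor F K :=
  isKFlatFor_of_iso F ((shiftEquiv (CochainComplex C₂ ℤ) n).unitIso.app K).symm
    (isKFlatFor_shift F h (-n))

section

variable [∀ n : ℤ, HasColimitsOfShape (Discrete (Idx n)) D]
  [∀ n : ℤ, HasExactColimitsOfShape (Discrete (Idx n)) D]

/-- Two out of three, for short exact sequences that stay exact after tensoring. -/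
theorem twoOfThree (S : ShortComplex (CochainComplex C₂ ℤ))
    (hS : ∀ L : CochainComplex C₁ ℤ, (S.map (tot F L)).ShortExact) :
    (IsKFlatFor F S.X₁ → IsKFlatFor F S.X₂ → IsKFlatFor F S.X₃) ∧
      (IsKFlatFor F S.X₁ → IsKFlatFor F S.X₃ → IsKFlatFor F S.X₂) ∧
        (IsKFlatFor F S.X₂ → IsKFlatFor F S.X₃ → IsKFlatFor F S.X₁) :=
  ⟨fun h₁ h₂ L hL => acyclic_X₃ (hS L) (h₁ L hL) (h₂ L hL),
    fun h₁ h₃ L hL => acyclic_X₂ (hS L) (h₁ L hL) (h₃ L hL),
    fun h₂ h₃ L hL => acyclic_X₁ (hS L) (h₂ L hL) (h₃ L hL)⟩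

/-- Two out of three for mapping cones. -/
theorem twoOfThree_mappingCone {K₁ K₂ : CochainComplex C₂ ℤ} (φ : K₁ ⟶ K₂) :
    (IsKFlatFor F K₁ → IsKFlatFor F K₂ → IsKFlatFor F (CochainComplex.mappingCone φ)) ∧
      (IsKFlatFor F K₁ → IsKFlatFor F (CochainComplex.mappingCone φ) → IsKFlatFor F K₂) ∧
        (IsKFlatFor F K₂ → IsKFlatFor F (CochainComplex.mappingCone φ) → IsKFlatFor F K₁) := by
  let S := CochainComplex.mappingCone.triangleRotateShortComplex φ
  obtain ⟨a, b, c⟩ := twoOfThree F S fun L => shortExact_tot_of_splitting F L S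
    (CochainComplex.mappingCone.triangleRotateShortComplexSplitting φ)
  exact ⟨fun h₁ h₂ => b h₂ (isKFlatFor_shift F h₁ 1), fun h₁ hc => c hc (isKFlatFor_shift F h₁ 1),
    fun h₂ hc => isKFlatFor_of_shift F 1 (a h₂ hc)⟩

/-- Colimits with exactness. -/
theorem isKFlatFor_of_isColimit {I : Type u'} [Category.{v'} I]
    [HasColimitsOfShape I C₂] [HasColimitsOfShape I D] [HasExactColimitsOfShape I D]
    [∀ X, PreservesColimitsOfShape I (F.obj X)] (K : I ⥤ CochainComplex C₂ ℤ) (c : Cocone K)
    (hc : IsColimit c) (h : ∀ i, IsKFlatFor F (K.obj i)) : IsKFlatFor F c.pt := fun L hL n => by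
  haveI := preservesColimitsOfShape_tot F L I
  exact exactAt_of_isColimit (K ⋙ tot F L) _ (isColimitOfPreserves (tot F L) hc) n
    fun i => h i L hL n

end

section Single

variable (L : CochainComplex C₁ ℤ) (q : ℤ) (M : C₂)

/-- The inclusion of the only nonzero summand. -/
noncomputable def singleι (p n : ℤ) (h : p + q = n) :
    (F.flip.obj M).obj (L.X p) ⟶
      (CochainComplex.mapBifunctor L ((HomologicalComplex.single C₂ (ComplexShape.up ℤ) q).obj M) F).X n :=
  (F.obj (L.X p)).map (HomologicalComplex.singleObjXSelf (ComplexShape.up ℤ) q M).inv ≫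
    CochainComplex.ιMapBifunctor L _ F p q n h

open Classical in
/-- The projection to the only nonzero summand. -/
noncomputable def singleπ (p n : ℤ) (h : p + q = n) :
    (CochainComplex.mapBifunctor L ((HomologicalComplex.single C₂ (ComplexShape.up ℤ) q).obj M) F).X n ⟶
      (F.flip.obj M).obj (L.X p) :=
  HomologicalComplex.mapBifunctorDesc fun p' q' h' =>
    if hq : q' = q then
      (F.obj (L.X p')).map (HomologicalComplex.singleObjXIsoOfEq (ComplexShape.up ℤ) q M q' hq).hom ≫
        (F.map (L.XIsoOfEq (by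
          have h'' : p' + q' = n := h'
          omega : p' = p)).hom).app M
    else 0

theorem isIso_singleι (p n : ℤ) (h : p + q = n) : IsIso (singleι F L q M p n h) := by
  refine ⟨singleπ F L q M p n h, ?_, ?_⟩
  · simp only [singleι, singleπ, Category.assoc]
    erw [HomologicalComplex.ι_mapBifunctorDesc]
    rw [dif_pos rfl, ← Functor.map_comp_assoc]
    simp [HomologicalComplex.singleObjXSelf, HomologicalComplex.XIsoOfEq]
  · refine HomologicalComplex.mapBifunctor.hom_ext fun p' q' h' => ?_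
    have h'' : p' + q' = n := h'
    by_cases hq : q' = q
    · obtain rfl : q' = q := hq
      obtain rfl : p' = p := by omega
      simp only [singleπ]
      erw [HomologicalComplex.ι_mapBifunctorDesc_assoc, Category.comp_id]
      rw [dif_pos rfl]
      simp only [singleι, HomologicalComplex.XIsoOfEq, eqToIso_refl, Iso.refl_hom, F.map_id,
        NatTrans.id_app]
      erw [Category.comp_id, ← Functor.map_comp_assoc]
      simp [HomologicalComplex.singleObjXSelf]
    · exact IsZero.eq_of_src ((F.obj (L.X p')).map_isZero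
        (HomologicalComplex.isZero_single_obj_X (ComplexShape.up ℤ) q M q' hq)) _ _

theorem singleι_d (p p' n n' : ℤ) (h : p + q = n) (h' : p' + q = n') (hp : p + 1 = p') :
    singleι F L q M p n h ≫
        (CochainComplex.mapBifunctor L ((HomologicalComplex.single C₂ (ComplexShape.up ℤ) q).obj M) F).d n n' =
      (F.flip.obj M).map (L.d p p') ≫ singleι F L q M p' n' h' := by
  show singleι F L q M p n h ≫ (HomologicalComplex.mapBifunctor.D₁ L _ F (ComplexShape.up ℤ) n n' +
    HomologicalComplex.mapBifunctor.D₂ L _ F (ComplexShape.up ℤ) n n') = _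
  simp only [singleι, Preadditive.comp_add, Category.assoc]
  erw [HomologicalComplex.mapBifunctor.ι_D₁, HomologicalComplex.mapBifunctor.ι_D₂]
  rw [HomologicalComplex.mapBifunctor.d₁_eq L _ F (ComplexShape.up ℤ) (i₁' := p') hp q n' h',
    HomologicalComplex.mapBifunctor.d₂_eq' L _ F (ComplexShape.up ℤ) p (i₂' := q + 1) rfl n']
  have hd : ((HomologicalComplex.single C₂ (ComplexShape.up ℤ) q).obj M).d q (q + 1) = 0 := rfl
  rw [hd, Functor.map_zero, zero_comp, smul_zero, comp_zero, add_zero,
    show ComplexShape.ε₁ (ComplexShape.up ℤ) (ComplexShape.up ℤ) (ComplexShape.up ℤ) (p, q) = 1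
      from rfl, one_smul]
  exact NatTrans.naturality_assoc _ _ _

/-- A good object in one degree is K-flat. -/
theorem isKFlatFor_single (hM : GoodObj F M) :
    IsKFlatFor F ((HomologicalComplex.single C₂ (ComplexShape.up ℤ) q).obj M) := fun L hL n => by
  haveI := isIso_singleι F L q M (n - 1 - q) (n - 1) (by omega)
  haveI := isIso_singleι F L q M (n - q) n (by omega)
  haveI := isIso_singleι F L q M (n + 1 - q) (n + 1) (by omega)
  show (CochainComplex.mapBifunctor L ((HomologicalComplex.single C₂ (ComplexShape.up ℤ) q).obj M) F).ExactAt n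
  rw [HomologicalComplex.exactAt_iff' _ (n - 1) n (n + 1) (by simp) (by simp)]
  let e₁ : (F.flip.obj M).obj (L.X (n - 1 - q)) ≅ _ :=
    asIso (singleι F L q M (n - 1 - q) (n - 1) _)
  let e₂ : (F.flip.obj M).obj (L.X (n - q)) ≅ _ := asIso (singleι F L q M (n - q) n _)
  let e₃ : (F.flip.obj M).obj (L.X (n + 1 - q)) ≅ _ :=
    asIso (singleι F L q M (n + 1 - q) (n + 1) _)
  have h₁ := singleι_d F L q M (n - 1 - q) (n - q) (n - 1) n (by omega) (by omega) (by omega)
  have h₂ := singleι_d F L q M (n - q) (n + 1 - q) n (n + 1) (by omega) (by omega) (by omega)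
  exact ShortComplex.exact_of_iso
    (S₁ := (L.sc' (n - 1 - q) (n - q) (n + 1 - q)).map (F.flip.obj M))
    (S₂ := (CochainComplex.mapBifunctor L ((HomologicalComplex.single C₂ (ComplexShape.up ℤ) q).obj M) F).sc'
      (n - 1) n (n + 1))
    (ShortComplex.isoMk e₁ e₂ e₃ h₁ h₂)
    (hM _ ((L.exactAt_iff' (n - 1 - q) (n - q) (n + 1 - q) (by simp; omega) (by simp; omega)).1
      (hL (n - q))))

end Single

end Groth.Agent.KFlat
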