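import Groth.Agent.KFlat.BddResolution
import Groth.Agent.KFlat.ModSite

/-!
# Direct sums of the modules `j_{U!} O_U`
-/

set_option linter.style.haveILetI false
set_option linter.unusedSectionVars false

universe u

open CategoryTheory Limits Opposite

namespace Groth.Agent.KFlat

variable {C : Type u} [SmallCategory C] {J : GrothendieckTopology C} (O : Sheaf J CommRingCat.{u})

/-- Being a direct sum of modules `j_{U!} O_U`. -/
def IsFreeOnSum (M : ModSite.Mod O) : Prop :=
  ∃ (ι : Type u) (U : ι → C), Nonempty (M ≅ ∐ fun j => ModSite.freeOn O (U j))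

/-- The global section of the restriction defined by a section at `U`. -/
noncomputable def overSection (N : ModSite.Mod O) (U : C) (s : N.val.obj (op U)) :
    ((ModSite.restr O U).obj N).sections :=
  PresheafOfModules.sectionsMk (M := ((ModSite.restr O U).obj N).val)
    (fun X => N.val.map X.unop.hom.op s)
    (fun X Y f => by
      show N.val.map f.unop.left.op (N.val.map X.unop.hom.op s) = N.val.map Y.unop.hom.op s
      rw [← PresheafOfModules.map_comp_apply, ← op_comp, Over.w])

/-- Sections of `N` at `U` are hit by maps from `j_{U!} O_U`. -/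
theorem freeOn_separates {N W : ModSite.Mod O} (g h : N ⟶ W)
    (hgh : ∀ (U : C) (φ : ModSite.freeOn O U ⟶ N), φ ≫ g = φ ≫ h) : g = h := by
  apply SheafOfModules.hom_ext
  apply PresheafOfModules.hom_ext
  rintro ⟨U⟩
  ext s
  let adj := ModSite.extZeroAdj O U
  let σ := ((ModSite.restr O U).obj N).unitHomEquiv.symm (overSection O N U s)
  have h0 := congrArg (adj.homEquiv _ _) (hgh U ((adj.homEquiv _ _).symm σ))
  rw [adj.homEquiv_naturality_right, adj.homEquiv_naturality_right, Equiv.apply_symm_apply] at h0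
  have h1 := congrArg ((ModSite.restr O U).obj W).unitHomEquiv h0
  simp only [σ, SheafOfModules.unitHomEquiv_comp_apply, Equiv.apply_symm_apply] at h1
  have h2 := congrArg (fun t : ((ModSite.restr O U).obj W).sections => t.val (op (Over.mk (𝟙 U)))) h1
  have hs : N.val.map (𝟙 U).op s = s := by
    rw [op_id]
    exact congr($(N.val.presheaf.map_id (op U)) s)
  have h3 : g.val.app (op U) (N.val.map (𝟙 U).op s) = h.val.app (op U) (N.val.map (𝟙 U).op s) := h2
  rw [hs] at h3
  exact h3

/-- The class of direct sums of modules `j_{U!} O_U` allows bounded above resolutions. -/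
theorem resClassFree : ResClass (IsFreeOnSum O) where
  iso e h := by
    obtain ⟨ι, U, ⟨i⟩⟩ := h
    exact ⟨ι, U, ⟨e.symm ≪≫ i⟩⟩
  zero {M} hM := by
    refine ⟨PEmpty, PEmpty.elim, ⟨hM.iso ?_⟩⟩
    rw [IsZero.iff_id_eq_zero]
    exact Sigma.hom_ext _ _ fun j => j.elim
  biprod {M M'} hM hM' := by
    obtain ⟨ι, U, ⟨e⟩⟩ := hM
    obtain ⟨ι', U', ⟨e'⟩⟩ := hM'
    let H : ι ⊕ ι' → ModSite.Mod O := fun j => ModSite.freeOn O (Sum.elim U U' j)
    refine ⟨ι ⊕ ι', Sum.elim U U', ⟨biprod.mapIso e e' ≪≫
      { hom := biprod.desc (Sigma.desc fun j => Sigma.ι H (.inl j))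
          (Sigma.desc fun j => Sigma.ι H (.inr j))
        inv := Sigma.desc fun j => match j with
          | .inl j => Sigma.ι (fun j => ModSite.freeOn O (U j)) j ≫ biprod.inl
          | .inr j => Sigma.ι (fun j => ModSite.freeOn O (U' j)) j ≫ biprod.inr
        hom_inv_id := ?_
        inv_hom_id := ?_ }⟩⟩
    · refine biprod.hom_ext' _ _ (Sigma.hom_ext _ _ fun j => ?_) (Sigma.hom_ext _ _ fun j => ?_)
      · erw [biprod.inl_desc_assoc, Sigma.ι_desc_assoc, Category.comp_id]
        exact Sigma.ι_desc _ _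
      · erw [biprod.inr_desc_assoc, Sigma.ι_desc_assoc, Category.comp_id]
        exact Sigma.ι_desc _ _
    · refine Sigma.hom_ext _ _ fun j => ?_
      rcases j with j | j
      · erw [Sigma.ι_desc_assoc, Category.assoc, biprod.inl_desc, Sigma.ι_desc, Category.comp_id]
      · erw [Sigma.ι_desc_assoc, Category.assoc, biprod.inr_desc, Sigma.ι_desc, Category.comp_id]
  sum Y hY := by
    choose ι U he using hY
    exact ⟨Σ i, ι i, fun p => U p.1 p.2, ⟨Sigma.mapIso (fun i => (he i).some) ≪≫
      sigmaSigmaIso ι fun i j => ModSite.freeOn O (U i j)⟩⟩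
  cover X := by
    let I : Type u := Σ U : C, ModSite.freeOn O U ⟶ X
    let H : I → ModSite.Mod O := fun p => ModSite.freeOn O p.1
    let π : ∐ H ⟶ X := Sigma.desc (f := H) fun p => p.2
    refine ⟨∐ H, π, ⟨I, fun p => p.1, ⟨eqToIso rfl⟩⟩, ⟨fun g h hgh => ?_⟩⟩
    refine freeOn_separates O g h fun U φ => ?_
    have e : Sigma.ι H ⟨U, φ⟩ ≫ π = φ := Sigma.ι_desc _ _
    rw [← e, Category.assoc, Category.assoc, hgh]

end Groth.Agent.KFlat
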