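import Groth.Agent.KFlat.ModSite
import Mathlib.Algebra.Homology.BifunctorAssociator

/-!
# Associativity of the tensor product of complexes of modules on a site
-/

set_option linter.style.haveILetI false
set_option linter.unusedSectionVars false

universe u

open CategoryTheory Limits MonoidalCategory

noncomputable section

namespace Groth.Agent.KFlat

open Groth.Agent.ModTensor

variable {C : Type u} [SmallCategory C] {J : GrothendieckTopology C} (O : Sheaf J CommRingCat.{u})

/-- The associator of the tensor product. -/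
def assocObj (X Y Z : ModSite.Mod O) : tens O (tens O X Y) Z ≅ tens O X (tens O Y Z) :=
  (sheafifyTensorRightIso O (pre O X ⊗ pre O Y) (pre O Z)).symm ≪≫
    (shF O).mapIso (α_ (pre O X) (pre O Y) (pre O Z)) ≪≫
      sheafifyTensorLeftIso O (pre O X) (pre O Y ⊗ pre O Z)

theorem assocObj_naturality {X X' Y Y' Z Z' : ModSite.Mod O} (f : X ⟶ X') (g : Y ⟶ Y') (h : Z ⟶ Z') :
    (shF O).map ((preFunctor O).map ((shF O).map ((preFunctor O).map f ⊗ₘ (preFunctor O).map g)) ⊗ₘ
        (preFunctor O).map h) ≫ (assocObj O X' Y' Z').hom =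
      (assocObj O X Y Z).hom ≫ (shF O).map ((preFunctor O).map f ⊗ₘ
        (preFunctor O).map ((shF O).map ((preFunctor O).map g ⊗ₘ (preFunctor O).map h))) := by
  let S := shF O
  let a := (preFunctor O).map f
  let b := (preFunctor O).map g
  let c := (preFunctor O).map h
  have e1 : (shUnit O (pre O X ⊗ pre O Y) ▷ pre O Z) ≫ ((preFunctor O).map (S.map (a ⊗ₘ b)) ⊗ₘ c) =
      ((a ⊗ₘ b) ⊗ₘ c) ≫ (shUnit O (pre O X' ⊗ pre O Y') ▷ pre O Z') := by
    rw [← tensorHom_id, ← tensorHom_id, tensorHom_comp_tensorHom, tensorHom_comp_tensorHom,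
      Category.id_comp, Category.comp_id, shUnit_naturality]
  have e2 : (pre O X ◁ shUnit O (pre O Y ⊗ pre O Z)) ≫ (a ⊗ₘ (preFunctor O).map (S.map (b ⊗ₘ c))) =
      (a ⊗ₘ (b ⊗ₘ c)) ≫ (pre O X' ◁ shUnit O (pre O Y' ⊗ pre O Z')) := by
    rw [← id_tensorHom, ← id_tensorHom, tensorHom_comp_tensorHom, tensorHom_comp_tensorHom,
      Category.id_comp, Category.comp_id, shUnit_naturality]
  have h1 : S.map ((preFunctor O).map (S.map (a ⊗ₘ b)) ⊗ₘ c) ≫
      inv (S.map (shUnit O (pre O X' ⊗ pre O Y') ▷ pre O Z')) =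
      inv (S.map (shUnit O (pre O X ⊗ pre O Y) ▷ pre O Z)) ≫ S.map ((a ⊗ₘ b) ⊗ₘ c) := by
    rw [IsIso.comp_inv_eq, Category.assoc, IsIso.eq_inv_comp, ← S.map_comp, ← S.map_comp, e1]
  have h2 : S.map ((a ⊗ₘ b) ⊗ₘ c) ≫ S.map (α_ _ _ _).hom = S.map (α_ _ _ _).hom ≫ S.map (a ⊗ₘ (b ⊗ₘ c)) :=
    (S.map_comp _ _).symm.trans ((congr_arg S.map (associator_naturality a b c)).trans (S.map_comp _ _))
  have h3 : S.map (a ⊗ₘ (b ⊗ₘ c)) ≫ S.map (pre O X' ◁ shUnit O (pre O Y' ⊗ pre O Z')) =
      S.map (pre O X ◁ shUnit O (pre O Y ⊗ pre O Z)) ≫ S.map (a ⊗ₘ (preFunctor O).map (S.map (b ⊗ₘ c))) := by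
    rw [← S.map_comp, ← S.map_comp, e2]
  show S.map _ ≫ inv _ ≫ S.map _ ≫ S.map _ = (inv _ ≫ S.map _ ≫ S.map _) ≫ S.map _
  rw [reassoc_of% h1, reassoc_of% h2, h3]
  simp only [Category.assoc]
  rfl

/-- The associator of the tensor product, as an isomorphism of trifunctors. -/
def assocTri : bifunctorComp₁₂ (ModSite.tensorBi O) (ModSite.tensorBi O) ≅
    bifunctorComp₂₃ (ModSite.tensorBi O) (ModSite.tensorBi O) :=
  NatIso.ofComponents (fun X => NatIso.ofComponents (fun Y => NatIso.ofComponents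
      (fun Z => assocObj O X Y Z) fun {Z Z'} h => by
        have := assocObj_naturality O (𝟙 X) (𝟙 Y) h
        simp only [CategoryTheory.Functor.map_id, id_tensorHom, tensorHom_id] at this
        erw [MonoidalCategory.id_whiskerRight, CategoryTheory.Functor.map_id, CategoryTheory.Functor.map_id,
          MonoidalCategory.id_tensorHom] at this
        exact this) fun {Y Y'} g => by
      ext Z : 2
      have := assocObj_naturality O (𝟙 X) g (𝟙 Z)
      simp only [CategoryTheory.Functor.map_id, id_tensorHom, tensorHom_id] at this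
      exact this) fun {X X'} f => by
    ext Y Z : 4
    have := assocObj_naturality O f (𝟙 Y) (𝟙 Z)
    simp only [CategoryTheory.Functor.map_id, tensorHom_id] at this
    erw [MonoidalCategory.id_whiskerRight, CategoryTheory.Functor.map_id, CategoryTheory.Functor.map_id,
      MonoidalCategory.tensorHom_id] at this
    exact this

instance hasGoodTrifunctor₁₂ (L K M : CochainComplex (ModSite.Mod O) ℤ) :
    HomologicalComplex.HasGoodTrifunctor₁₂Obj (ModSite.tensorBi O) (ModSite.tensorBi O) L K M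
      (ComplexShape.up ℤ) (ComplexShape.up ℤ) := fun n q => by
  haveI : PreservesColimitsOfSize.{u, u} ((ModSite.tensorBi O).flip.obj (M.X q)) :=
    ⟨fun {J} _ => preservesColimitsOfShape_of_natIso (tensorSymm O (M.X q)).symm⟩
  haveI : PreservesColimitsOfSize.{0, 0} ((ModSite.tensorBi O).flip.obj (M.X q)) :=
    preservesColimitsOfSize_shrink.{0, u, 0, u} _
  infer_instance

instance hasGoodTrifunctor₂₃ (L K M : CochainComplex (ModSite.Mod O) ℤ) :
    HomologicalComplex.HasGoodTrifunctor₂₃Obj (ModSite.tensorBi O) (ModSite.tensorBi O) L K M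
      (ComplexShape.up ℤ) (ComplexShape.up ℤ) (ComplexShape.up ℤ) := fun _ _ => inferInstance

/-- Associativity of total tensor products. -/
def totAssocIso (L K M : CochainComplex (ModSite.Mod O) ℤ) :
    (tot (ModSite.tensorBi O) ((tot (ModSite.tensorBi O) L).obj K)).obj M ≅
      (tot (ModSite.tensorBi O) L).obj ((tot (ModSite.tensorBi O) K).obj M) :=
  HomologicalComplex.mapBifunctorAssociator (assocTri O) L K M (ComplexShape.up ℤ) (ComplexShape.up ℤ)
    (ComplexShape.up ℤ)

/-- Tensor products of K-flat complexes are K-flat. -/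
theorem isKFlat_tensor {K M : CochainComplex (ModSite.Mod O) ℤ} (hK : ModSite.IsKFlat K)
    (hM : ModSite.IsKFlat M) : ModSite.IsKFlat (((ModSite.tensorCx O).obj K).obj M) :=
  (isKFlat_iff O _).2 fun L hL n =>
    ((isKFlat_iff O M).1 hM _ ((isKFlat_iff O K).1 hK L hL) n).of_iso (totAssocIso O L K M)

end Groth.Agent.KFlat
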